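import Cfsg.Agent.Lib.Struct77.BGroupConj.Structure

/-!
Solvable groups in which abelian subgroups of equal order are conjugate: any two subgroups of equal
order are conjugate.
-/

set_option autoImplicit false

namespace CfsgLib.BGroupConj

open Subgroup CfsgLib.BGroup
open scoped Pointwise commutatorElement

universe u

variable {G : Type u} [Group G] [Finite G]

omit [Finite G] in
theorem isMulCommutative_sub {A W : Subgroup G} (h : A ≤ W) [hW : IsMulCommutative W] :
    IsMulCommutative A :=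
  ⟨⟨fun a b => Subtype.ext (congrArg Subtype.val
    (hW.is_comm.comm (⟨a, h a.2⟩ : W) ⟨b, h b.2⟩) :)⟩⟩

/-- Odd Sylow subgroups cyclic and a normal Hall `2`-subgroup: the quotient is a Z-group. -/
theorem isZGroup_quotient (V : Subgroup G) [V.Normal] (hV : IsPGroup 2 V)
    (hidx : ¬ 2 ∣ V.index)
    (hodd : ∀ (r : ℕ) [Fact r.Prime], r ≠ 2 → ∀ P : Sylow r G, IsCyclic ↥(P : Subgroup G)) :
    IsZGroup (G ⧸ V) := by
  refine ⟨fun r hr S => ?_⟩
  have := Fact.mk hr
  by_cases hr2 : r = 2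
  · subst hr2
    have h1 : Nat.card (S : Subgroup (G ⧸ V)) = 1 := by
      obtain ⟨n, hn⟩ := S.2.exists_card_eq
      rcases Nat.eq_zero_or_pos n with h | h
      · rw [hn, h, pow_zero]
      · exfalso
        apply hidx
        rw [index_eq_card]
        exact (hn ▸ dvd_pow_self 2 h.ne').trans (card_subgroup_dvd_card _)
    have hsub : Subsingleton ↥(S : Subgroup (G ⧸ V)) := (Nat.card_eq_one_iff_unique.1 h1).1
    exact isCyclic_of_subsingleton
  · obtain ⟨P, rfl⟩ := Sylow.mapSurjective_surjective (QuotientGroup.mk'_surjective V) r S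
    have := hodd r hr2 P
    exact isCyclic_of_surjective _
      ((QuotientGroup.mk' V).subgroupMap_surjective (P : Subgroup G))

/-- Descending invariance of subgroups of an elementary abelian group. -/
theorem lines_invariant {p : ℕ} [hp : Fact p.Prime] {N : Subgroup G} (hN : Cfsg.IsElementaryAbelian p N)
    {t s : ℕ} (ht : Nat.card N = p ^ t) (hs1 : 1 ≤ s) (hst : s < t) (f : G)
    (hinv : ∀ S : Subgroup G, S ≤ N → Nat.card S = p ^ s → ∀ v ∈ S, f * v * f⁻¹ ∈ S) :
    ∀ v ∈ N, ∃ a : ℤ, f * v * f⁻¹ = v ^ a := by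
  have hcomm : ∀ a ∈ N, ∀ b ∈ N, a * b = b * a := fun a ha b hb =>
    congrArg Subtype.val (hN.1.is_comm.comm ⟨a, ha⟩ ⟨b, hb⟩)
  have hord : ∀ v ∈ N, v ≠ 1 → orderOf v = p := fun v hv h1 => orderOf_eq_prime (hN.2 v hv) h1
  have hext : ∀ S : Subgroup G, S ≤ N → ∀ v ∈ N, v ∉ S →
      S ⊔ zpowers v ≤ N ∧ Nat.card ↥(S ⊔ zpowers v : Subgroup G) = Nat.card S * p ∧
      ∀ x ∈ S ⊔ zpowers v, ∃ s' ∈ S, ∃ m : ℤ, x = s' * v ^ m := by
    intro S hS v hv hvS
    have hnorm : S ≤ normalizer (zpowers v : Set G) := fun x hx =>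
      CfsgLib.Coprime.mem_normalizer_of_forall_conj fun y hy => by
        obtain ⟨m, rfl⟩ := mem_zpowers_iff.1 hy
        rw [hcomm x (hS hx) _ (N.zpow_mem hv m), mul_inv_cancel_right]
        exact hy
    have hinf : zpowers v ⊓ S = ⊥ := by
      have hv1 : v ≠ 1 := fun e => hvS (e ▸ one_mem _)
      rcases (Nat.dvd_prime hp.out).1 (show Nat.card (zpowers v ⊓ S : Subgroup G) ∣ p from
        (card_dvd_of_le inf_le_left).trans (by rw [Nat.card_zpowers, hord v hv hv1])) with h | h
      · exact card_eq_one.1 h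
      · exfalso
        have h2 : zpowers v ⊓ S = zpowers v := eq_of_le_of_card_ge inf_le_left
          (by rw [h, Nat.card_zpowers, hord v hv hv1])
        exact hvS ((h2.symm ▸ mem_zpowers v : v ∈ zpowers v ⊓ S).2)
    refine ⟨sup_le hS (zpowers_le.2 hv), ?_, fun x hx => ?_⟩
    · rw [CfsgLib.Coprime.card_sup_of_disjoint hnorm hinf, Nat.card_zpowers,
        hord v hv fun e => hvS (e ▸ one_mem _)]
    · rw [← SetLike.mem_coe, coe_mul_of_left_le_normalizer_right S (zpowers v) hnorm] at hx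
      obtain ⟨a, ha, b, hb, rfl⟩ := hx
      obtain ⟨m, rfl⟩ := mem_zpowers_iff.1 hb
      exact ⟨a, ha, m, rfl⟩
  have hdown : ∀ d k : ℕ, 1 ≤ k → k + d = s → ∀ S : Subgroup G, S ≤ N → Nat.card S = p ^ k →
      ∀ v ∈ S, f * v * f⁻¹ ∈ S := by
    intro d
    induction d with
    | zero => intro k _ hk; exact fun S hS hc => hinv S hS (by rw [hc, show k = s by omega])
    | succ d ih =>
      intro k hk hks S hS hc v hv
      obtain ⟨a, ha, haS⟩ : ∃ a ∈ N, a ∉ S := by
        by_contra hcon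
        push Not at hcon
        have := Nat.le_of_dvd Nat.card_pos (card_dvd_of_le (fun x hx => hcon x hx : N ≤ S))
        rw [ht, hc, Nat.pow_le_pow_iff_right hp.out.one_lt] at this
        omega
      obtain ⟨hS1, hc1, hmem1⟩ := hext S hS a ha haS
      obtain ⟨b, hb, hbS⟩ : ∃ b ∈ N, b ∉ S ⊔ zpowers a := by
        by_contra hcon
        push Not at hcon
        have := Nat.le_of_dvd Nat.card_pos (card_dvd_of_le (fun x hx => hcon x hx : N ≤ S ⊔ zpowers a))
        rw [ht, hc1, hc, ← pow_succ, Nat.pow_le_pow_iff_right hp.out.one_lt] at this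
        omega
      obtain ⟨hS2, hc2, hmem2⟩ := hext S hS b hb fun h => hbS (mem_sup_left h)
      have e1 := ih (k + 1) (by omega) (by omega) _ hS1 (by rw [hc1, hc, pow_succ]) v (mem_sup_left hv)
      have e2 := ih (k + 1) (by omega) (by omega) _ hS2 (by rw [hc2, hc, pow_succ]) v (mem_sup_left hv)
      obtain ⟨s', hs', m, hm⟩ := hmem2 _ e2
      rw [hm] at e1 ⊢
      have hbm : b ^ m ∈ S ⊔ zpowers a := ((S ⊔ zpowers a).mul_mem_cancel_left (mem_sup_left hs')).1 e1
      have hbm1 : b ^ m = 1 := by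
        by_contra hne
        have hz : zpowers (b ^ m) = zpowers b := by
          refine eq_of_le_of_card_ge (zpowers_le.2 (zpow_mem (mem_zpowers b) m)) ?_
          rw [Nat.card_zpowers, Nat.card_zpowers, hord _ (N.zpow_mem hb m) hne,
            hord b hb fun e => hbS (e ▸ one_mem _)]
        exact hbS (zpowers_le.2 hbm (hz ▸ mem_zpowers b))
      rw [hbm1, mul_one]
      exact hs'
  intro v hv
  by_cases hv1 : v = 1
  · exact ⟨0, by rw [hv1]; simp⟩
  obtain ⟨a, ha⟩ := mem_zpowers_iff.1 (hdown (s - 1) 1 le_rfl (by omega) (zpowers v) (zpowers_le.2 hv)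
    (by rw [Nat.card_zpowers, hord v hv hv1, pow_one]) v (mem_zpowers v))
  exact ⟨a, ha.symm⟩

/-- An element of order dividing four modulo the centraliser acting on all lines. -/
theorem centralizes_or_inverts {p : ℕ} [hp : Fact p.Prime] (hp2 : p ≠ 2) {N : Subgroup G} [hNn : N.Normal]
    (hN : Cfsg.IsElementaryAbelian p N) {f : G} (hline : ∀ v ∈ N, ∃ a : ℤ, f * v * f⁻¹ = v ^ a)
    (hsq : ∀ v ∈ N, f ^ 2 * v = v * f ^ 2) :
    (∀ v ∈ N, f * v * f⁻¹ = v) ∨ ∀ v ∈ N, f * v * f⁻¹ = v⁻¹ := by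
  have hcomm : ∀ a ∈ N, ∀ b ∈ N, a * b = b * a := fun a ha b hb =>
    congrArg Subtype.val (hN.1.is_comm.comm ⟨a, ha⟩ ⟨b, hb⟩)
  have hone : ∀ v ∈ N, f * v * f⁻¹ = v ∨ f * v * f⁻¹ = v⁻¹ := by
    intro v hv
    by_cases hv1 : v = 1
    · left; rw [hv1]; group
    obtain ⟨a, ha⟩ := hline v hv
    have hord : orderOf v = p := orderOf_eq_prime (hN.2 v hv) hv1
    have h1 : v ^ (a * a) = v := by
      rw [zpow_mul, ← ha, conj_zpow, ← ha]
      calc f * (f * v * f⁻¹) * f⁻¹ = f ^ 2 * v * (f ^ 2)⁻¹ := by rw [pow_two]; group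
        _ = v := by rw [hsq v hv, mul_inv_cancel_right]
    have h2 : (p : ℤ) ∣ (a - 1) * (a + 1) := by
      rw [← hord, orderOf_dvd_iff_zpow_eq_one, show (a - 1) * (a + 1) = a * a - 1 by ring, zpow_sub,
        h1, zpow_one, mul_inv_cancel]
    rcases (Nat.prime_iff_prime_int.1 hp.out).dvd_or_dvd h2 with h | h
    · left
      rw [ha]
      rw [← hord, orderOf_dvd_iff_zpow_eq_one, zpow_sub, zpow_one, mul_inv_eq_one] at h
      exact h
    · right
      rw [ha]
      rw [← hord, orderOf_dvd_iff_zpow_eq_one, zpow_add, zpow_one] at h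
      exact eq_inv_of_mul_eq_one_left h
  by_cases hall : ∀ v ∈ N, f * v * f⁻¹ = v
  · exact Or.inl hall
  right
  push Not at hall
  obtain ⟨u, hu, hne⟩ := hall
  have hu' := (hone u hu).resolve_left hne
  have hodd : ∀ v ∈ N, v * v = 1 → v = 1 := fun v hv h => by
    by_contra hv1
    have h2 : orderOf v ∣ 2 := orderOf_dvd_of_pow_eq_one (by rw [pow_two]; exact h)
    rw [orderOf_eq_prime (hN.2 v hv) hv1] at h2
    exact hp2 ((Nat.prime_dvd_prime_iff_eq hp.out Nat.prime_two).1 h2)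
  intro w hw
  rcases hone w hw with h | h
  · have hcw : f * (u * w) * f⁻¹ = u⁻¹ * w := by
      rw [show f * (u * w) * f⁻¹ = (f * u * f⁻¹) * (f * w * f⁻¹) by group, hu', h]
    rcases hone (u * w) (N.mul_mem hu hw) with h2 | h2
    · exfalso
      rw [hcw] at h2
      have h3 : u * u = 1 := by
        have h4 := mul_right_cancel h2
        nth_rw 1 [← h4]
        exact inv_mul_cancel u
      exact hne (by rw [hodd u hu h3]; group)
    · rw [hcw, mul_inv_rev, hcomm w⁻¹ (N.inv_mem hw) u⁻¹ (N.inv_mem hu)] at h2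
      rw [h]
      exact mul_left_cancel h2
  · exact h

/-- Subgroups of equal order of a solvable such group are conjugate. -/
theorem soc_of_solvable (hB : AbConj G) [Group.IsSolvable G] : SOC G := by
  classical
  obtain ⟨W, hW, hmax⟩ := exists_max_good (G := G)
  have := hW.1
  have hWab := hW.2.1
  have hWc : ∀ a ∈ W, ∀ b ∈ W, a * b = b * a := fun a ha b hb =>
    congrArg Subtype.val (hWab.is_comm.comm ⟨a, ha⟩ ⟨b, hb⟩)
  have hWsol : Group.IsSolvable W := Group.isSolvable_of_comm fun a b => hWab.is_comm.comm a b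
  have hmn : ∀ M : Subgroup (G ⧸ W), MinNormal.IsMinNormal M → (Nat.card M).Prime := fun M hM =>
    prime_minNormal hB hW hmax hM
  have hBq : AbConj (G ⧸ W) := solvable_abConj_quotient_aux _ G le_rfl hB inferInstance W
  intro A B hcard
  refine conj_of_hall W hW.coprime (fun D₁ D₂ h1 h2 hc => ?_) (fun D hD => ?_) hcard
  · exact hB D₁ D₂ (isMulCommutative_sub h1) (isMulCommutative_sub h2) hc
  set X := (normalizer (D : Set G)).map (QuotientGroup.mk' W) with hX
  have hodd : ∀ (r : ℕ) [Fact r.Prime], r ≠ 2 → ∀ P : Sylow r (G ⧸ W),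
      IsCyclic ↥(P : Subgroup (G ⧸ W)) := fun r _ hr P =>
    (sylow_structure hBq hmn P).resolve_right fun h => hr h.1
  have : Fact (Nat.Prime 2) := ⟨Nat.prime_two⟩
  let R : Sylow 2 (G ⧸ W) := default
  rcases sylow_structure hBq hmn R with hRc | ⟨-, hR8, hRn, hRnc, hRu⟩
  · have : IsZGroup (G ⧸ W) := ⟨fun r hr P => by
      have := Fact.mk hr
      by_cases h2 : r = 2
      · subst h2
        exact (Sylow.equiv R P).isCyclic.mp hRc
      · exact hodd r h2 P⟩
    exact soc_of_zGroup _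
  have hoddX : ∀ (r : ℕ) [Fact r.Prime], r ≠ 2 → ∀ P : Sylow r X, IsCyclic ↥(P : Subgroup X) := by
    intro r hr h2 P
    obtain ⟨Q, hQ⟩ := ((P.2.map X.subtype) :
      IsPGroup r ((P : Subgroup X).map X.subtype)).exists_le_sylow
    have := hodd r h2 Q
    have h3 : IsCyclic ↥((P : Subgroup X).map X.subtype) := isCyclic_of_le hQ
    exact ((P : Subgroup X).equivMapOfInjective X.subtype X.subtype_injective).isCyclic.mpr h3
  -- the facts about `R`
  obtain ⟨z', hz', hz'o, hall', -, -⟩ := eight_facts hR8 hRnc hRu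
  by_cases hRX : ¬ (R : Subgroup (G ⧸ W)) ≤ X
  · have : IsZGroup X := ⟨fun r hr P => by
      have := Fact.mk hr
      by_cases h2 : r = 2
      · subst h2
        have hle : (P : Subgroup X).map X.subtype ≤ (R : Subgroup (G ⧸ W)) := by
          obtain ⟨Q, hQ⟩ := (P.2.map X.subtype).exists_le_sylow
          have := Sylow.unique_of_normal R hRn
          rwa [Subsingleton.elim Q R] at hQ
        set T := (P : Subgroup X).map X.subtype with hT
        suffices h3 : IsCyclic T from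
          ((P : Subgroup X).equivMapOfInjective X.subtype X.subtype_injective).isCyclic.mpr h3
        by_cases h4 : ∃ w ∈ T, orderOf w = 4
        · obtain ⟨w, hw, hw4⟩ := h4
          have hTlt : Nat.card T ≠ 8 := fun h8 => hRX (by
            rw [← eq_of_le_of_card_ge hle (by rw [h8, hR8])]
            exact map_subtype_le _)
          have hT8 : Nat.card T ∣ 8 := hR8 ▸ card_dvd_of_le hle
          have hT4 : Nat.card T ≤ 4 := by
            obtain ⟨k, hk, hk'⟩ := (Nat.dvd_prime_pow Nat.prime_two).1 (show Nat.card T ∣ 2 ^ 3 from hT8)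
            rw [hk'] at hTlt ⊢
            clear * - hk hTlt
            interval_cases k <;> omega
          rw [← eq_of_le_of_card_ge (zpowers_le.2 hw) (by rw [Nat.card_zpowers, hw4]; exact hT4)]
          infer_instance
        · push Not at h4
          have : T ≤ zpowers z' := fun x hx => by
            rcases hall' x (hle hx) with rfl | rfl | ⟨h, -⟩
            · exact one_mem _
            · exact mem_zpowers _
            · exact absurd h (h4 x hx)
          exact isCyclic_of_le this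
      · exact hoddX r h2 P⟩
    exact soc_of_zGroup _
  push Not at hRX
  -- the quaternion case
  have h2W : ¬ 2 ∣ Nat.card W := fun h => by
    have h2i : 2 ∣ W.index := by
      rw [index_eq_card]
      exact (show 2 ∣ Nat.card (R : Subgroup (G ⧸ W)) by rw [hR8]; norm_num).trans
        (card_subgroup_dvd_card _)
    exact absurd (hW.coprime ▸ Nat.dvd_gcd h h2i) (by norm_num)
  let S : Sylow 2 G := default
  have hSR : (S : Subgroup G).map (QuotientGroup.mk' W) = (R : Subgroup (G ⧸ W)) := by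
    have := Sylow.unique_of_normal R hRn
    have h := Subsingleton.elim (S.mapSurjective (QuotientGroup.mk'_surjective W)) R
    rw [← h]
    rfl
  have hSW : (S : Subgroup G) ⊓ W = ⊥ := inf_eq_bot_of_coprime (by
    obtain ⟨n, hn⟩ := S.2.exists_card_eq
    rw [hn]
    exact Nat.Coprime.pow_left n (Nat.prime_two.coprime_iff_not_dvd.2 h2W))
  have hin : ∀ x ∈ (S : Subgroup G), ∀ y ∈ (S : Subgroup G),
      QuotientGroup.mk' W x = QuotientGroup.mk' W y → x = y := fun x hx y hy h => by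
    have h1 : x⁻¹ * y ∈ (S : Subgroup G) ⊓ W :=
      ⟨(S : Subgroup G).mul_mem ((S : Subgroup G).inv_mem hx) hy, QuotientGroup.eq.1 h⟩
    rwa [hSW, mem_bot, inv_mul_eq_one] at h1
  have hS8 : Nat.card (S : Subgroup G) = 8 := by
    have h1 := card_map_mk W (S : Subgroup G)
    rw [hSR, hSW, hR8, card_bot, mul_one] at h1
    exact h1.symm
  have hordS : ∀ x ∈ (S : Subgroup G), orderOf (QuotientGroup.mk' W x) = orderOf x := fun x hx => by
    let φ : ↥(S : Subgroup G) →* G ⧸ W := (QuotientGroup.mk' W).comp (S : Subgroup G).subtype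
    have hφ : Function.Injective φ := fun a b h => Subtype.ext (hin a a.2 b b.2 h)
    exact (orderOf_injective φ hφ ⟨x, hx⟩).trans (orderOf_mk x hx)
  have hmemR : ∀ x ∈ (S : Subgroup G), QuotientGroup.mk' W x ∈ (R : Subgroup (G ⧸ W)) := fun x hx =>
    hSR ▸ mem_map_of_mem _ hx
  have hSu : ∀ a ∈ (S : Subgroup G), ∀ b ∈ (S : Subgroup G), orderOf a = 2 → orderOf b = 2 → a = b :=
    fun a ha b hb ha2 hb2 => hin a ha b hb (hRu _ (hmemR a ha) _ (hmemR b hb)
      ((hordS a ha).trans ha2) ((hordS b hb).trans hb2))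
  have hSnc : ¬ IsCyclic ↥(S : Subgroup G) := by
    intro hc
    apply hRnc
    rw [← hSR]
    exact isCyclic_of_surjective _ ((QuotientGroup.mk' W).subgroupMap_surjective (S : Subgroup G))
  obtain ⟨z, hz, hzo, hall, -, hij⟩ := eight_facts hS8 hSnc hSu
  set J : Subgroup G := (R : Subgroup (G ⧸ W)).comap (QuotientGroup.mk' W) with hJ
  have hJn : J.Normal := hRn.comap _
  have hSJ : (S : Subgroup G) ≤ J := fun x hx => hmemR x hx
  have hWN : W ≤ normalizer (D : Set G) := fun w hw =>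
    CfsgLib.Coprime.mem_normalizer_of_forall_conj fun d hd => by
      rw [hWc w hw d (hD hd), mul_inv_cancel_right]; exact hd
  have hND : ∀ g, QuotientGroup.mk' W g ∈ X → g ∈ normalizer (D : Set G) := by
    intro g hg
    obtain ⟨n, hn, hng⟩ := hg
    have h1 : n⁻¹ * g ∈ W := QuotientGroup.eq.1 hng
    simpa using mul_mem hn (hWN h1)
  have hJN : J ≤ normalizer (D : Set G) := fun g hg => hND g (hRX hg)
  -- partial components are centralised
  have hpartial : ∀ (p : ℕ) (N : Subgroup G), p.Prime → p ∣ Nat.card W → N ≤ W → MinNormal.IsMinNormal N →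
      Cfsg.IsElementaryAbelian p N → D ⊓ N ≠ ⊥ → ¬ N ≤ D →
      ∀ f ∈ (S : Subgroup G), ∀ v ∈ N, f * v = v * f := by
    intro p N hp hpW hNW hmin hel hne hnle
    have := Fact.mk hp
    have hNn := hmin.1
    have hp2 : p ≠ 2 := fun e => h2W (e ▸ hpW)
    have hNp : IsPGroup p N := fun x => ⟨1, Subtype.ext (by simpa using hel.2 x x.2)⟩
    obtain ⟨t, ht⟩ := hNp.exists_card_eq
    obtain ⟨s, hst, hs⟩ := (Nat.dvd_prime_pow hp).1
      (ht ▸ card_dvd_of_le (inf_le_right : D ⊓ N ≤ N))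
    have hs1 : 1 ≤ s := Nat.one_le_iff_ne_zero.2 fun e =>
      hne (card_eq_one.1 (by rw [hs, e, pow_zero]))
    have hst' : s < t := lt_of_le_of_ne hst fun e => hnle (by
      rw [← eq_of_le_of_card_ge (inf_le_right : D ⊓ N ≤ N) (by rw [hs, ht, e])]
      exact inf_le_left)
    have hline : ∀ f ∈ (S : Subgroup G), ∀ v ∈ N, ∃ a : ℤ, f * v * f⁻¹ = v ^ a := by
      intro f hf
      refine lines_invariant hel ht hs1 hst' f fun K hK hKc => ?_
      obtain ⟨g, hg⟩ := hB (D ⊓ N) K (isMulCommutative_sub (inf_le_right.trans hNW))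
        (isMulCommutative_sub (hK.trans hNW)) (by rw [hs, hKc])
      intro v hv
      rw [hg] at hv ⊢
      obtain ⟨w, hw, rfl⟩ := hv
      have hfJ : g⁻¹ * f * g ∈ J := by simpa using hJn.conj_mem f (hSJ hf) g⁻¹
      refine ⟨g⁻¹ * f * g * w * (g⁻¹ * f * g)⁻¹, ⟨?_, hNn.conj_mem w hw.2 _⟩, ?_⟩
      · exact (mem_normalizer_iff.1 (hJN hfJ) w).1 hw.1
      · show g * (g⁻¹ * f * g * w * (g⁻¹ * f * g)⁻¹) * g⁻¹ = f * (g * w * g⁻¹) * f⁻¹
        group
    -- the commutator acts trivially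
    obtain ⟨i, hi, hi4⟩ : ∃ i ∈ (S : Subgroup G), orderOf i = 4 := by
      by_contra hcon
      push Not at hcon
      have hle : (S : Subgroup G) ≤ zpowers z := fun x hx => by
        rcases hall x hx with rfl | rfl | ⟨h, -⟩
        · exact one_mem _
        · exact mem_zpowers _
        · exact absurd h (hcon x hx)
      have := Nat.le_of_dvd Nat.card_pos (card_dvd_of_le hle)
      rw [hS8, Nat.card_zpowers, hzo] at this
      omega
    obtain ⟨j, hj, hji⟩ : ∃ j ∈ (S : Subgroup G), j ∉ zpowers i := by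
      by_contra hcon
      push Not at hcon
      have := Nat.le_of_dvd Nat.card_pos
        (card_dvd_of_le (fun x hx => hcon x hx : (S : Subgroup G) ≤ zpowers i))
      rw [hS8, Nat.card_zpowers, hi4] at this
      omega
    obtain ⟨hj4, hij4, hcm⟩ := hij i hi j hj hi4 hji
    have hzv : ∀ v ∈ N, z * v = v * z := by
      intro v hv
      obtain ⟨a, ha⟩ := hline i hi v hv
      obtain ⟨b, hb⟩ := hline j hj v hv
      have e1 : (i * j) * v * (i * j)⁻¹ = v ^ (a * b) := by
        rw [show (i * j) * v * (i * j)⁻¹ = i * (j * v * j⁻¹) * i⁻¹ by group, hb, ← conj_zpow, ha, zpow_mul]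
      have e2 : (j * i) * v * (j * i)⁻¹ = v ^ (a * b) := by
        rw [show (j * i) * v * (j * i)⁻¹ = j * (i * v * i⁻¹) * j⁻¹ by group, ha, ← conj_zpow, hb,
          ← zpow_mul, mul_comm]
      have e3 : (j * i)⁻¹ * (i * j) * v * ((j * i)⁻¹ * (i * j))⁻¹ = v := by
        calc _ = (j * i)⁻¹ * ((i * j) * v * (i * j)⁻¹) * (j * i) := by group
          _ = (j * i)⁻¹ * ((j * i) * v * (j * i)⁻¹) * (j * i) := by rw [e1, e2]
          _ = v := by group
      have hzeq : z = i * j * i⁻¹ * j⁻¹ := hcm.symm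
      have e4 : z * ((j * i) * v * (j * i)⁻¹) * z⁻¹ = (j * i) * v * (j * i)⁻¹ := by
        rw [hzeq]
        calc _ = (i * j) * v * (i * j)⁻¹ := by group
          _ = _ := by rw [e1, e2]
      -- every element is a conjugate of this form
      obtain ⟨a', ha'⟩ := hline (j * i) (mul_mem hj hi) v hv
      have hk : (j * i)⁻¹ ∈ (S : Subgroup G) := inv_mem (mul_mem hj hi)
      obtain ⟨c, hc⟩ := hline _ hk v hv
      have e5 : ((j * i) * v * (j * i)⁻¹) ^ c = v := by
        rw [conj_zpow, ← hc]; group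
      have e6 : z * v * z⁻¹ = v := by
        conv_lhs => rw [← e5, ← conj_zpow, e4, e5]
      exact mul_inv_eq_iff_eq_mul.1 e6
    have hsq : ∀ f ∈ (S : Subgroup G), orderOf f = 4 → ∀ v ∈ N, f ^ 2 * v = v * f ^ 2 := by
      intro f hf hf4 v hv
      rcases hall f hf with rfl | rfl | ⟨-, h⟩
      · rw [orderOf_one] at hf4; omega
      · omega
      · rw [h]; exact hzv v hv
    obtain ⟨k, hk, hk4, hkN⟩ : ∃ k ∈ (S : Subgroup G), orderOf k = 4 ∧ ∀ v ∈ N, k * v = v * k := by
      rcases centralizes_or_inverts hp2 hel (hline i hi) (hsq i hi hi4) with h | hI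
      · exact ⟨i, hi, hi4, fun v hv => mul_inv_eq_iff_eq_mul.1 (h v hv)⟩
      rcases centralizes_or_inverts hp2 hel (hline j hj) (hsq j hj hj4) with h | hJ'
      · exact ⟨j, hj, hj4, fun v hv => mul_inv_eq_iff_eq_mul.1 (h v hv)⟩
      refine ⟨i * j, mul_mem hi hj, hij4, fun v hv => mul_inv_eq_iff_eq_mul.1 ?_⟩
      rw [show i * j * v * (i * j)⁻¹ = i * (j * v * j⁻¹) * i⁻¹ by group, hJ' v hv,
        hI v⁻¹ (N.inv_mem hv), inv_inv]
    intro f hf v hv
    have hfour : ∀ x ∈ (S : Subgroup G), orderOf x = 4 → x * v = v * x := by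
      intro x hx hx4
      have hKn : ((centralizer (N : Set G)).map (QuotientGroup.mk' W)).Normal :=
        (inferInstance : (centralizer (N : Set G)).Normal).map _ (QuotientGroup.mk'_surjective W)
      have hkC : k ∈ centralizer (N : Set G) := mem_centralizer_iff.2 fun v hv => (hkN v hv).symm
      obtain ⟨c, hc, hcx⟩ := hBq.mem_normal
        (M := (centralizer (N : Set G)).map (QuotientGroup.mk' W))
        (mem_map_of_mem (QuotientGroup.mk' W) hkC)
        (show orderOf (QuotientGroup.mk' W k) = orderOf (QuotientGroup.mk' W x) by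
          rw [hordS k hk, hordS x hx, hk4, hx4])
      have hw : c⁻¹ * x ∈ W := QuotientGroup.eq.1 hcx
      have h1 : Commute c v := ((mem_centralizer_iff.1 hc) v hv).symm
      have h2 : Commute (c⁻¹ * x) v := hWc _ hw v (hNW hv)
      simpa using (h1.mul_left h2).eq
    rcases hall f hf with rfl | rfl | ⟨h, -⟩
    · rw [one_mul, mul_one]
    · exact hzv v hv
    · exact hfour f hf h
  -- conjugacy inside `R`
  have hRsol : Group.IsSolvable ((R : Subgroup (G ⧸ W)).subgroupOf X) := inferInstance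
  have : ((R : Subgroup (G ⧸ W)).subgroupOf X).Normal := hRn.subgroupOf X
  have hVidx : ¬ 2 ∣ ((R : Subgroup (G ⧸ W)).subgroupOf X).index := fun h => by
    have := hRn
    exact R.not_dvd_index (h.trans (relIndex_dvd_index_of_normal _ X))
  have hVcard : Nat.card ((R : Subgroup (G ⧸ W)).subgroupOf X) = 2 ^ 3 := by
    rw [Nat.card_congr (subgroupOfEquivOfLe hRX).toEquiv, hR8]; norm_num
  have hVp : IsPGroup 2 ((R : Subgroup (G ⧸ W)).subgroupOf X) := IsPGroup.of_card hVcard
  have hXZ : IsZGroup (X ⧸ (R : Subgroup (G ⧸ W)).subgroupOf X) :=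
    isZGroup_quotient _ hVp hVidx hoddX
  refine soc_of_hall_zGroup ((R : Subgroup (G ⧸ W)).subgroupOf X)
    (by rw [hVcard]; exact Nat.Coprime.pow_left 3 (Nat.prime_two.coprime_iff_not_dvd.2 hVidx)) ?_
  intro T₁ T₂ h1 h2 hc
  have hm : ∀ T : Subgroup X, T ≤ (R : Subgroup (G ⧸ W)).subgroupOf X →
      T.map X.subtype ≤ (R : Subgroup (G ⧸ W)) := by
    rintro T hT _ ⟨x, hx, rfl⟩
    exact hT hx
  have hcT : ∀ T : Subgroup X, Nat.card (T.map X.subtype) = Nat.card T := fun T =>
    card_map_of_injective X.subtype_injective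
  by_cases hn4 : Nat.card T₁ ≠ 4
  · refine ⟨1, ?_⟩
    rw [map_one]
    refine Eq.trans ?_ (Subgroup.map_id T₁).symm
    refine map_injective X.subtype_injective ?_
    have hd : Nat.card T₁ ∣ 8 := hR8 ▸ hcT T₁ ▸ card_dvd_of_le (hm T₁ h1)
    have hd' : Nat.card T₁ = 1 ∨ Nat.card T₁ = 2 ∨ Nat.card T₁ = 8 := by
      obtain ⟨k, hk, hk'⟩ := (Nat.dvd_prime_pow Nat.prime_two).1 (show Nat.card T₁ ∣ 2 ^ 3 from hd)
      rw [hk'] at hn4 ⊢
      clear * - hk hn4
      interval_cases k <;> omega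
    have huniq : ∀ T : Subgroup (G ⧸ W), T ≤ (R : Subgroup (G ⧸ W)) → Nat.card T = 2 → T = zpowers z' := by
      intro T hT hT2
      refine eq_of_le_of_card_ge (fun x hx => ?_) (by rw [Nat.card_zpowers, hz'o, hT2])
      rcases hall' x (hT hx) with rfl | rfl | ⟨h, -⟩
      · exact one_mem _
      · exact mem_zpowers _
      · have := Nat.le_of_dvd two_pos (hT2 ▸ orderOf_dvd_natCard T hx)
        omega
    rcases hd' with h | h | h
    · rw [card_eq_one.1 ((hcT T₁).trans h), card_eq_one.1 ((hcT T₂).trans (hc ▸ h))]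
    · rw [huniq _ (hm _ h1) ((hcT T₁).trans h), huniq _ (hm _ h2) ((hcT T₂).trans (hc ▸ h))]
    · rw [eq_of_le_of_card_ge (hm _ h1) (by rw [hcT, h, hR8]),
        eq_of_le_of_card_ge (hm _ h2) (by rw [hcT, ← hc, h, hR8])]
  push Not at hn4
  -- lifts of generators
  have hlift : ∀ T : Subgroup X, T ≤ (R : Subgroup (G ⧸ W)).subgroupOf X → Nat.card T = 4 →
      ∃ i ∈ (S : Subgroup G), orderOf i = 4 ∧ T.map X.subtype = zpowers (QuotientGroup.mk' W i) := by
    intro T hT hT4
    obtain ⟨w, hw, hw4⟩ : ∃ w ∈ T.map X.subtype, orderOf w = 4 := by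
      by_contra hcon
      push Not at hcon
      have hle : T.map X.subtype ≤ zpowers z' := fun x hx => by
        rcases hall' x (hm T hT hx) with rfl | rfl | ⟨h, -⟩
        · exact one_mem _
        · exact mem_zpowers _
        · exact absurd h (hcon x hx)
      have := Nat.le_of_dvd Nat.card_pos (card_dvd_of_le hle)
      rw [hcT, hT4, Nat.card_zpowers, hz'o] at this
      omega
    have hwS : w ∈ (S : Subgroup G).map (QuotientGroup.mk' W) := hSR.symm ▸ hm T hT hw
    obtain ⟨i, hi, rfl⟩ := hwS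
    refine ⟨i, hi, (hordS i hi).symm.trans hw4, ?_⟩
    exact (eq_of_le_of_card_ge (zpowers_le.2 hw) (by rw [hcT, hT4, Nat.card_zpowers, hw4])).symm
  obtain ⟨i, hi, hi4, hTi⟩ := hlift T₁ h1 hn4
  obtain ⟨j, hj, hj4, hTj⟩ := hlift T₂ h2 (hc ▸ hn4)
  set C := D ⊓ centralizer ((S : Subgroup G) : Set G) with hC
  have hCS : ∀ f ∈ (S : Subgroup G), ∀ c ∈ C, f * c = c * f := fun f hf c hc =>
    mem_centralizer_iff.1 hc.2 f hf
  have hab : ∀ f ∈ (S : Subgroup G), IsMulCommutative ↥(C ⊔ zpowers f : Subgroup G) ∧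
      Nat.card ↥(C ⊔ zpowers f : Subgroup G) = Nat.card C * orderOf f ∧
      (C ⊔ zpowers f) ⊓ W ≤ C ∧
      (C ⊔ zpowers f).map (QuotientGroup.mk' W) = zpowers (QuotientGroup.mk' W f) := by
    intro f hf
    have hnorm : C ≤ normalizer (zpowers f : Set G) := fun c hc =>
      CfsgLib.Coprime.mem_normalizer_of_forall_conj fun y hy => by
        rw [← hCS y (zpowers_le.2 hf hy) c hc, mul_inv_cancel_right]
        exact hy
    have hinf : zpowers f ⊓ C = ⊥ := by
      rw [eq_bot_iff, ← hSW]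
      exact inf_le_inf (zpowers_le.2 hf) (inf_le_left.trans hD)
    have hmem : ∀ x ∈ C ⊔ zpowers f, ∃ c ∈ C, ∃ m : ℤ, x = c * f ^ m := by
      intro x hx
      rw [← SetLike.mem_coe, coe_mul_of_left_le_normalizer_right C (zpowers f) hnorm] at hx
      obtain ⟨a, ha, b, hb, rfl⟩ := hx
      obtain ⟨m, rfl⟩ := mem_zpowers_iff.1 hb
      exact ⟨a, ha, m, rfl⟩
    refine ⟨⟨⟨fun a b => Subtype.ext ?_⟩⟩, ?_, ?_, ?_⟩
    · obtain ⟨c, hc, m, hm⟩ := hmem a a.2
      obtain ⟨c', hc', m', hm'⟩ := hmem b b.2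
      show (a : G) * b = b * a
      rw [hm, hm']
      have h1 : Commute c c' := hWc c (hD hc.1) c' (hD hc'.1)
      have h2 : Commute (f ^ m) c' := hCS _ (zpow_mem hf m) c' hc'
      have h3 : Commute c (f ^ m') := (hCS _ (zpow_mem hf m') c hc).symm
      have h4 : Commute (f ^ m) (f ^ m') := (Commute.refl f).zpow_zpow m m'
      exact ((h1.mul_right h3).mul_left (h2.mul_right h4)).eq
    · rw [CfsgLib.Coprime.card_sup_of_disjoint hnorm hinf, Nat.card_zpowers]
    · rintro x ⟨hx, hxW⟩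
      obtain ⟨c, hc, m, rfl⟩ := hmem x hx
      have h1 : f ^ m ∈ (S : Subgroup G) ⊓ W :=
        ⟨zpow_mem hf m, (W.mul_mem_cancel_left (hD hc.1)).1 hxW⟩
      rw [hSW, mem_bot] at h1
      rwa [h1, mul_one]
    · rw [Subgroup.map_sup, MonoidHom.map_zpowers, sup_eq_right]
      rintro _ ⟨c, hc, rfl⟩
      rw [show QuotientGroup.mk' W c = 1 from (QuotientGroup.eq_one_iff c).2 (hD hc.1)]
      exact one_mem _
  obtain ⟨hAi, hci, -, hmi⟩ := hab i hi
  obtain ⟨hAj, hcj, hjW, hmj⟩ := hab j hj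
  obtain ⟨g, hg⟩ := hB _ _ hAi hAj (by rw [hci, hcj, hi4, hj4])
  have hgC : ∀ c ∈ C, g * c * g⁻¹ ∈ C := by
    intro c hc
    refine hjW ⟨?_, (hW.1).conj_mem c (hD hc.1) g⟩
    rw [hg]
    exact ⟨c, mem_sup_left hc, rfl⟩
  have hgD : g ∈ normalizer (D : Set G) := by
    refine CfsgLib.Coprime.mem_normalizer_of_forall_conj ?_
    refine parts_ind (fun v => v ∈ D → g * v * g⁻¹ ∈ D) (fun p v hp hv hvD => ?_) ?_
    · by_cases hv1 : v = 1
      · rw [hv1]; simp
      obtain ⟨a, ha⟩ := hv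
      have hpW : p ∣ Nat.card W := by
        refine (dvd_pow_self p fun h0 => hv1 ?_).trans (ha ▸ orderOf_dvd_natCard W (hD hvD))
        exact orderOf_eq_one_iff.1 (by rw [ha, h0, pow_zero])
      obtain ⟨N, hNW, hmin, hel, hsyl⟩ := hW.2.2 p hp hpW
      have := Fact.mk hp
      have hvN : v ∈ N := mem_sylow_of_good (W := W) hsyl ⟨a, ha⟩
      by_cases hND' : N ≤ D
      · exact hND' (hmin.1.conj_mem v hvN g)
      · refine (hgC v ⟨hvD, mem_centralizer_iff.2 fun f hf => ?_⟩).1
        exact hpartial p N hp hpW hNW hmin hel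
          (fun h0 => hv1 (mem_bot.1 (h0 ▸ ⟨hvD, hvN⟩))) hND' f hf v hvN
    · intro a b _ ha hb iha ihb hab'
      rw [show g * (a * b) * g⁻¹ = (g * a * g⁻¹) * (g * b * g⁻¹) by group]
      exact mul_mem (iha (zpowers_le.2 hab' ha)) (ihb (zpowers_le.2 hab' hb))
  refine ⟨⟨QuotientGroup.mk' W g, g, hgD, rfl⟩, map_injective X.subtype_injective ?_⟩
  rw [map_map, hTj, ← hmj, hg, mk_conj, hmi, ← hTi,
    show X.subtype.comp (MulAut.conj (⟨QuotientGroup.mk' W g, g, hgD, rfl⟩ : X)).toMonoidHom =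
      (MulAut.conj (QuotientGroup.mk' W g)).toMonoidHom.comp X.subtype from rfl,
    ← map_map]

end CfsgLib.BGroupConj
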