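import Mathlib
import Cfsg.Agent.Lib.Coprime.Action
import Cfsg.Agent.Lib.Solvable.MinNormal
import Cfsg.Agent.Lib.Struct77.BGroup

/-!
Conjugacy of subgroups of equal order: reduction modulo a normal subgroup, and Z-groups.
-/

set_option autoImplicit false

namespace CfsgLib.BGroupConj

open Subgroup

universe u

/-- Any two subgroups of the same order are conjugate. -/
def SOC (X : Type*) [Group X] : Prop :=
  ∀ A B : Subgroup X, Nat.card A = Nat.card B → ∃ g : X, B = A.map (MulAut.conj g).toMonoidHom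

variable {G : Type u} [Group G] [Finite G]

omit [Finite G] in
theorem map_conj_map_conj (A : Subgroup G) (g k : G) :
    (A.map (MulAut.conj g).toMonoidHom).map (MulAut.conj k).toMonoidHom =
      A.map (MulAut.conj (k * g)).toMonoidHom := by
  rw [map_map]
  congr 1
  ext x
  simp [mul_assoc]

omit [Finite G] in
theorem card_map_conj (A : Subgroup G) (g : G) :
    Nat.card ↥(A.map (MulAut.conj g).toMonoidHom) = Nat.card A :=
  card_map_of_injective (f := (MulAut.conj g).toMonoidHom) (MulAut.conj g).injective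

omit [Finite G] in
theorem mk_conj (V : Subgroup G) [V.Normal] (A : Subgroup G) (g : G) :
    (A.map (MulAut.conj g).toMonoidHom).map (QuotientGroup.mk' V) =
      (A.map (QuotientGroup.mk' V)).map (MulAut.conj (QuotientGroup.mk' V g)).toMonoidHom := by
  rw [map_map, map_map]
  congr 1

/-- The order of the image in a quotient. -/
theorem card_map_mk (V : Subgroup G) [V.Normal] (A : Subgroup G) :
    Nat.card (A.map (QuotientGroup.mk' V)) * Nat.card (A ⊓ V : Subgroup G) = Nat.card A := by
  rw [← Nat.card_congr (subgroupOfEquivOfLe (inf_le_left : A ⊓ V ≤ A)).toEquiv]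
  have hker : ((QuotientGroup.mk' V).comp A.subtype).ker = (A ⊓ V).subgroupOf A := by
    rw [← MonoidHom.comap_ker, QuotientGroup.ker_mk', inf_subgroupOf_left]
    rfl
  have hrange : ((QuotientGroup.mk' V).comp A.subtype).range = A.map (QuotientGroup.mk' V) := by
    rw [MonoidHom.range_comp, range_subtype]
  rw [← hker, ← hrange, ← index_ker, mul_comm, card_mul_index]

/-- Two subgroups with the same intersection with `V` and the same image modulo `V`. -/
theorem conj_of_inf_eq (V : Subgroup G) [hVn : V.Normal] [hV : Group.IsSolvable V] {A B D : Subgroup G}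
    (hA : A ⊓ V = D) (hB : B ⊓ V = D) (hcard : Nat.card A = Nat.card B)
    (hcop : (Nat.card V).Coprime (Nat.card (A.map (QuotientGroup.mk' V))))
    (him : A.map (QuotientGroup.mk' V) = B.map (QuotientGroup.mk' V)) :
    ∃ g : G, B = A.map (MulAut.conj g).toMonoidHom := by
  have hDA : D ≤ A := hA ▸ inf_le_left
  have hDV : D ≤ V := hA ▸ inf_le_right
  have hDB : D ≤ B := hB ▸ inf_le_left
  set N := normalizer (D : Set G) with hN
  have hAN : ∀ C : Subgroup G, C ⊓ V = D → C ≤ N := fun C hC c hc =>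
    CfsgLib.Coprime.mem_normalizer_of_forall_conj fun d hd => by
      rw [← hC] at hd ⊢
      exact ⟨C.mul_mem (C.mul_mem hc hd.1) (C.inv_mem hc), hVn.conj_mem d hd.2 c⟩
  -- complements of `D`
  have hcompl : ∀ C : Subgroup G, C ⊓ V = D → (Nat.card V).Coprime (Nat.card (C.map (QuotientGroup.mk' V))) →
      ∃ C₁ : Subgroup G, C₁ ≤ C ∧ C = D ⊔ C₁ ∧ (Nat.card C₁).Coprime (Nat.card V) := by
    intro C hC hc
    have hDC : D ≤ C := hC ▸ inf_le_left
    have : (D.subgroupOf C).Normal := normal_subgroupOf_of_le_normalizer (hAN C hC)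
    have hidx : (D.subgroupOf C).index = Nat.card (C.map (QuotientGroup.mk' V)) := by
      have h1 := card_map_mk V C
      rw [hC] at h1
      have h2 := (D.subgroupOf C).card_mul_index
      rw [Nat.card_congr (subgroupOfEquivOfLe hDC).toEquiv, ← h1, mul_comm] at h2
      exact Nat.eq_of_mul_eq_mul_right Nat.card_pos h2
    obtain ⟨K, hK⟩ := exists_right_complement'_of_coprime (N := D.subgroupOf C) (by
      rw [hidx, Nat.card_congr (subgroupOfEquivOfLe hDC).toEquiv]
      exact hc.coprime_dvd_left (card_dvd_of_le (hC ▸ inf_le_right)))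
    refine ⟨K.map C.subtype, map_subtype_le _, ?_, ?_⟩
    · have h := congrArg (Subgroup.map C.subtype) hK.sup_eq_top
      rw [Subgroup.map_sup, subgroupOf_map_subtype, inf_eq_left.2 hDC, ← MonoidHom.range_eq_map,
        range_subtype] at h
      exact h.symm
    · rw [card_map_of_injective C.subtype_injective, ← hK.symm.index_eq_card, hidx]
      exact hc.symm
  obtain ⟨A₁, hA₁, hA', hA₁c⟩ := hcompl A hA hcop
  obtain ⟨B₁, hB₁, hB', hB₁c⟩ := hcompl B hB (him ▸ hcop)
  set W := V ⊓ N with hW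
  have hA₁W : A₁ ≤ normalizer (W : Set G) := fun a ha =>
    CfsgLib.Coprime.mem_normalizer_of_forall_conj fun w hw =>
      ⟨hVn.conj_mem w hw.1 a,
        N.mul_mem (N.mul_mem (hAN A hA (hA₁ ha)) hw.2) (N.inv_mem (hAN A hA (hA₁ ha)))⟩
  have hB₁le : B₁ ≤ A₁ ⊔ W := by
    intro b hb
    have hbm : QuotientGroup.mk' V b ∈ A.map (QuotientGroup.mk' V) := him ▸ ⟨b, hB₁ hb, rfl⟩
    obtain ⟨a, ha, hab⟩ := hbm
    have hv : a⁻¹ * b ∈ W := ⟨QuotientGroup.eq.1 hab,
      N.mul_mem (N.inv_mem (hAN A hA ha)) (hAN B hB (hB₁ hb))⟩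
    have haW : a ∈ A₁ ⊔ W := by
      have hDW : D ≤ W := le_inf hDV le_normalizer
      exact (sup_le (hDW.trans le_sup_right) le_sup_left : D ⊔ A₁ ≤ A₁ ⊔ W) (hA' ▸ ha)
    simpa [mul_assoc] using (A₁ ⊔ W).mul_mem haW (mem_sup_right hv)
  have hWV : Nat.card W ∣ Nat.card V := card_dvd_of_le inf_le_left
  obtain ⟨x, hx, hle⟩ := CfsgLib.Coprime.exists_conj_le_of_coprime A₁ W hA₁W
    (hA₁c.coprime_dvd_right hWV) B₁ hB₁le (hB₁c.coprime_dvd_right hWV)
    (Or.inr (Group.isSolvable_of_isSolvable_injective (inclusion_injective (inf_le_left : W ≤ V))))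
  have hBx : B.map (MulAut.conj x).toMonoidHom ≤ A := by
    rw [hB', Subgroup.map_sup, sup_le_iff]
    refine ⟨?_, fun c hc => ?_⟩
    · rintro _ ⟨d, hd, rfl⟩
      exact hDA ((mem_normalizer_iff.1 hx.2 d).1 hd)
    · obtain ⟨b, hb, rfl⟩ := hc
      exact hA₁ (CfsgLib.Coprime.conj_smul_le.1 hle b hb)
  have heq : B.map (MulAut.conj x).toMonoidHom = A :=
    eq_of_le_of_card_ge hBx (by rw [card_map_conj, hcard])
  refine ⟨x⁻¹, ?_⟩
  rw [← heq, map_conj_map_conj, inv_mul_cancel, map_one]
  exact (Subgroup.map_id B).symm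

/-- Reduction modulo a normal Hall subgroup. -/
theorem conj_of_hall (V : Subgroup G) [hVn : V.Normal] [Group.IsSolvable V]
    (hall : (Nat.card V).Coprime V.index)
    (hsub : ∀ D₁ D₂ : Subgroup G, D₁ ≤ V → D₂ ≤ V → Nat.card D₁ = Nat.card D₂ →
      ∃ g : G, D₂ = D₁.map (MulAut.conj g).toMonoidHom)
    (hsoc : ∀ D : Subgroup G, D ≤ V →
      SOC ↥((normalizer (D : Set G)).map (QuotientGroup.mk' V)))
    {A B : Subgroup G} (hcard : Nat.card A = Nat.card B) :
    ∃ g : G, B = A.map (MulAut.conj g).toMonoidHom := by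
  -- the order of the intersection with `V` is determined
  have hcop : ∀ C : Subgroup G, (Nat.card V).Coprime (Nat.card (C.map (QuotientGroup.mk' V))) := fun C =>
    hall.coprime_dvd_right (by rw [index_eq_card]; exact card_subgroup_dvd_card _)
  have hinf : Nat.card (A ⊓ V : Subgroup G) = Nat.card (B ⊓ V : Subgroup G) := by
    have key : ∀ C D : Subgroup G, Nat.card C = Nat.card D →
        Nat.card (C ⊓ V : Subgroup G) ∣ Nat.card (D ⊓ V : Subgroup G) := by
      intro C D h
      refine (Nat.Coprime.coprime_dvd_left (card_dvd_of_le inf_le_right) (hcop D)).dvd_of_dvd_mul_left ?_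
      rw [card_map_mk V D, ← h]
      exact card_dvd_of_le inf_le_left
    exact Nat.dvd_antisymm (key A B hcard) (key B A hcard.symm)
  obtain ⟨g, hg⟩ := hsub (A ⊓ V) (B ⊓ V) inf_le_right inf_le_right hinf
  set A' := A.map (MulAut.conj g).toMonoidHom with hA'
  set D := B ⊓ V with hD
  have hA'D : A' ⊓ V = D := by
    rw [hg, map_inf _ _ (MulAut.conj g).toMonoidHom (MulAut.conj g).injective]
    congr 1
    exact ((normal_iff_map_conj_eq.1 hVn) g).symm
  have hcard' : Nat.card A' = Nat.card B := by rw [hA', card_map_conj, hcard]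
  have hN : ∀ C : Subgroup G, C ⊓ V = D → C ≤ normalizer (D : Set G) := fun C hC c hc =>
    CfsgLib.Coprime.mem_normalizer_of_forall_conj fun d hd => by
      rw [← hC] at hd ⊢
      exact ⟨C.mul_mem (C.mul_mem hc hd.1) (C.inv_mem hc), hVn.conj_mem d hd.2 c⟩
  set X := (normalizer (D : Set G)).map (QuotientGroup.mk' V) with hX
  have himA : A'.map (QuotientGroup.mk' V) ≤ X := map_mono (hN A' hA'D)
  have himB : B.map (QuotientGroup.mk' V) ≤ X := map_mono (hN B rfl)
  have hcim : Nat.card (A'.map (QuotientGroup.mk' V)) = Nat.card (B.map (QuotientGroup.mk' V)) := by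
    have h1 := card_map_mk V A'
    have h2 := card_map_mk V B
    rw [hA'D, hcard', ← h2] at h1
    exact Nat.eq_of_mul_eq_mul_right Nat.card_pos h1
  obtain ⟨⟨_, n, hn, rfl⟩, hy⟩ := hsoc D inf_le_right ((A'.map (QuotientGroup.mk' V)).subgroupOf X)
    ((B.map (QuotientGroup.mk' V)).subgroupOf X)
    (by rw [Nat.card_congr (subgroupOfEquivOfLe himA).toEquiv,
      Nat.card_congr (subgroupOfEquivOfLe himB).toEquiv, hcim])
  have hy' := congrArg (Subgroup.map X.subtype) hy
  rw [subgroupOf_map_subtype, inf_eq_left.2 himB, map_map,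
    show X.subtype.comp (MulAut.conj (⟨QuotientGroup.mk' V n, n, hn, rfl⟩ : X)).toMonoidHom =
      (MulAut.conj (QuotientGroup.mk' V n)).toMonoidHom.comp X.subtype from rfl,
    ← map_map, subgroupOf_map_subtype, inf_eq_left.2 himA, ← mk_conj] at hy'
  set A'' := A'.map (MulAut.conj n).toMonoidHom with hA''
  have hA''D : A'' ⊓ V = D := by
    have e1 : D.map (MulAut.conj n).toMonoidHom = D := mem_normalizer_iff_map_conj_eq.1 hn
    conv_rhs => rw [← e1, ← hA'D]
    rw [map_inf _ _ (MulAut.conj n).toMonoidHom (MulAut.conj n).injective]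
    congr 1
    exact ((normal_iff_map_conj_eq.1 hVn) n).symm
  obtain ⟨k, hk⟩ := conj_of_inf_eq V hA''D rfl (by rw [hA'', card_map_conj, hcard']) (hcop A'') hy'.symm
  exact ⟨k * (n * g), by rw [hk, hA'', hA', map_conj_map_conj, map_conj_map_conj, mul_assoc]⟩

omit [Finite G] in
/-- In a cyclic Sylow subgroup containing a normal subgroup of prime order there are no others. -/
theorem le_of_dvd_of_cyclic_sylow [Finite G] {r : ℕ} [hr : Fact r.Prime] {N : Subgroup G} [hNn : N.Normal]
    (hN : Nat.card N = r) (hcyc : ∀ P : Sylow r G, IsCyclic ↥(P : Subgroup G)) {A : Subgroup G}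
    (hA : r ∣ Nat.card A) : N ≤ A := by
  obtain ⟨⟨a, ha⟩, hao⟩ := exists_prime_orderOf_dvd_card' r hA
  rw [orderOf_mk] at hao
  have hap : IsPGroup r (zpowers a) := IsPGroup.of_card (n := 1) (by rw [Nat.card_zpowers, hao, pow_one])
  obtain ⟨P, hP⟩ := hap.exists_le_sylow
  have hNP : N ≤ (P : Subgroup G) := (IsPGroup.of_card (n := 1) (by rw [hN, pow_one])).le_sylow_of_normal P
  have := hcyc P
  have h1 : N.subgroupOf (P : Subgroup G) = (zpowers a).subgroupOf (P : Subgroup G) := by
    refine eq_of_le_of_card_ge (CfsgLib.BGroup.le_of_card_dvd_of_cyclic (dvd_of_eq ?_)) (le_of_eq ?_) <;>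
    rw [Nat.card_congr (subgroupOfEquivOfLe hNP).toEquiv, Nat.card_congr (subgroupOfEquivOfLe hP).toEquiv,
      hN, Nat.card_zpowers, hao]
  intro n hn
  have h2 : (⟨n, hNP hn⟩ : (P : Subgroup G)) ∈ (zpowers a).subgroupOf (P : Subgroup G) :=
    h1 ▸ mem_subgroupOf.2 hn
  exact zpowers_le.2 ha (mem_subgroupOf.1 h2)

theorem soc_of_zGroup_aux : ∀ (m : ℕ) (X : Type u) [Group X] [Finite X] [IsZGroup X],
    Nat.card X ≤ m → SOC X := by
  intro m
  induction m with
  | zero => intro X _ _ _ h; exact absurd Nat.card_pos (not_lt.2 h)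
  | succ m ih =>
    intro X _ _ _ hm A B hcard
    rcases subsingleton_or_nontrivial X with hs | hs
    · exact ⟨1, Subgroup.ext fun x => by
        simp only [Subsingleton.elim x 1, one_mem]⟩
    obtain ⟨N, hN⟩ := CfsgLib.MinNormal.exists_isMinNormal (G := X)
    obtain ⟨r, hr, hel, -⟩ := hN.elementaryAbelian_of_solvable
    have := Fact.mk hr
    have hNn : N.Normal := hN.1
    have hNp : IsPGroup r N := fun x => ⟨1, Subtype.ext (by simpa using hel.2 x x.2)⟩
    have hcycN : IsCyclic N := hNp.isCyclic_of_isZGroup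
    have hNr : Nat.card N = r := by
      obtain ⟨c, hc⟩ := IsCyclic.exists_generator (α := N)
      rw [← orderOf_eq_card_of_forall_mem_zpowers hc]
      refine orderOf_eq_prime (Subtype.ext (hel.2 c c.2)) fun e => hN.2.1 (eq_bot_iff.2 fun x hx => ?_)
      have := hc ⟨x, hx⟩
      rw [e, zpowers_one_eq_bot, mem_bot] at this
      simpa using congrArg Subtype.val this
    have hsmall : Nat.card (X ⧸ N) ≤ m := by
      have h1 := N.index_mul_card
      have h3 : 0 < N.index := Nat.pos_of_ne_zero index_ne_zero_of_finite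
      show N.index ≤ m
      rw [hNr] at h1
      have := hr.two_le
      nlinarith
    have hcyc : ∀ P : Sylow r X, IsCyclic ↥(P : Subgroup X) := fun P => IsZGroup.isZGroup r hr P
    by_cases hrA : r ∣ Nat.card A
    · have hA := le_of_dvd_of_cyclic_sylow hNr hcyc hrA
      have hB := le_of_dvd_of_cyclic_sylow hNr hcyc (hcard ▸ hrA)
      have hc' : Nat.card (A.map (QuotientGroup.mk' N)) = Nat.card (B.map (QuotientGroup.mk' N)) := by
        have h1 := card_map_mk N A
        have h2 := card_map_mk N B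
        rw [inf_eq_right.2 hA, hcard, ← h2, inf_eq_right.2 hB] at h1
        exact Nat.eq_of_mul_eq_mul_right Nat.card_pos h1
      obtain ⟨y, hy⟩ := ih (X ⧸ N) hsmall _ _ hc'
      obtain ⟨g, rfl⟩ := QuotientGroup.mk'_surjective N y
      refine ⟨g, ?_⟩
      have h1 := congrArg (Subgroup.comap (QuotientGroup.mk' N)) hy
      rw [← mk_conj, comap_map_eq, comap_map_eq, QuotientGroup.ker_mk', sup_eq_left.2 hB,
        sup_eq_left.2] at h1
      · exact h1
      · rw [← (normal_iff_map_conj_eq.1 hNn) g]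
        exact map_mono hA
    · have hbot : ∀ C : Subgroup X, ¬ r ∣ Nat.card C → C ⊓ N = ⊥ := fun C hC =>
        inf_eq_bot_of_coprime (by
          rw [hNr]; exact (hr.coprime_iff_not_dvd.2 hC).symm)
      have hc' : Nat.card (A.map (QuotientGroup.mk' N)) = Nat.card (B.map (QuotientGroup.mk' N)) := by
        have h1 := card_map_mk N A
        have h2 := card_map_mk N B
        rw [hbot A hrA, hcard, ← h2, hbot B (hcard ▸ hrA)] at h1
        exact Nat.eq_of_mul_eq_mul_right Nat.card_pos h1
      obtain ⟨y, hy⟩ := ih (X ⧸ N) hsmall _ _ hc'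
      obtain ⟨g, rfl⟩ := QuotientGroup.mk'_surjective N y
      rw [← mk_conj] at hy
      have hrA' : ¬ r ∣ Nat.card ↥(A.map (MulAut.conj g).toMonoidHom) := by
        rw [card_map_conj]; exact hrA
      obtain ⟨k, hk⟩ := conj_of_inf_eq N (hbot _ hrA') (hbot B (hcard ▸ hrA))
        (by rw [card_map_conj, hcard]) (by
          refine Nat.Coprime.coprime_dvd_right (card_map_dvd _ _) ?_
          rw [hNr]; exact hr.coprime_iff_not_dvd.2 hrA') hy.symm
      exact ⟨k * g, by rw [hk, map_conj_map_conj]⟩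

/-- In a Z-group subgroups of equal order are conjugate. -/
theorem soc_of_zGroup (X : Type u) [Group X] [Finite X] [IsZGroup X] : SOC X :=
  soc_of_zGroup_aux _ X le_rfl

/-- A normal Hall subgroup with Z-group quotient. -/
theorem soc_of_hall_zGroup (V : Subgroup G) [V.Normal] [Group.IsSolvable V]
    (hall : (Nat.card V).Coprime V.index) [IsZGroup (G ⧸ V)]
    (hsub : ∀ D₁ D₂ : Subgroup G, D₁ ≤ V → D₂ ≤ V → Nat.card D₁ = Nat.card D₂ →
      ∃ g : G, D₂ = D₁.map (MulAut.conj g).toMonoidHom) : SOC G :=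
  fun _ _ h => conj_of_hall V hall hsub (fun _ _ => soc_of_zGroup _) h

end CfsgLib.BGroupConj
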