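import Cfsg.Agent.Lib.Struct77.BGroupSolvable
import Cfsg.Agent.Lib.Struct77.BGroupConj.Reduce
import Cfsg.Agent.Lib.Solvable.CoprimeGeneration
import Cfsg.Agent.S3909

/-!
Solvable groups with conjugate abelian subgroups of equal order all of whose minimal normal
subgroups have prime order; the quotient by the product of the other minimal normal subgroups.
-/

set_option autoImplicit false

namespace CfsgLib.BGroupConj

open Subgroup CfsgLib.BGroup
open scoped Pointwise commutatorElement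

universe u

variable {G : Type u} [Group G] [Finite G]

/-- Normal abelian Hall subgroups made of minimal normal Sylow subgroups. -/
def Good (W : Subgroup G) : Prop :=
  W.Normal ∧ IsMulCommutative W ∧ ∀ p : ℕ, p.Prime → p ∣ Nat.card W →
    ∃ N : Subgroup G, N ≤ W ∧ MinNormal.IsMinNormal N ∧ Cfsg.IsElementaryAbelian p N ∧
      ∀ P : Sylow p G, (P : Subgroup G) = N

theorem good_bot : Good (⊥ : Subgroup G) :=
  ⟨inferInstance, inferInstance, fun p hp h => absurd (by simpa using h) hp.not_dvd_one⟩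

theorem exists_max_good : ∃ W : Subgroup G, Good W ∧ ∀ W' : Subgroup G, Good W' → Nat.card W' ≤ Nat.card W := by
  obtain ⟨W, hW, hmax⟩ := Set.exists_max_image {W : Subgroup G | Good W} (fun W => Nat.card W)
    (Set.toFinite _) ⟨⊥, good_bot⟩
  exact ⟨W, hW, hmax⟩

theorem Good.coprime {W : Subgroup G} (hW : Good W) : (Nat.card W).Coprime W.index := by
  refine Nat.coprime_of_dvd fun p hp h1 h2 => ?_
  have := Fact.mk hp
  obtain ⟨N, hNW, -, -, hN⟩ := hW.2.2 p hp h1
  let P : Sylow p G := default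
  exact P.not_dvd_index (h2.trans (index_dvd_of_le (hN P ▸ hNW)))

theorem mem_sylow_of_good {W : Subgroup G} {p : ℕ} [Fact p.Prime] {N : Subgroup G}
    (hN : ∀ P : Sylow p G, (P : Subgroup G) = N) {v : G} (hv : ∃ a, orderOf v = p ^ a) : v ∈ N := by
  obtain ⟨a, ha⟩ := hv
  obtain ⟨P, hP⟩ := (IsPGroup.of_card (n := a) (by rw [Nat.card_zpowers, ha]) :
    IsPGroup p (zpowers v)).exists_le_sylow
  exact hN P ▸ hP (mem_zpowers v)

/-- Induction over the prime power parts. -/
theorem parts_ind (P : G → Prop)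
    (hpp : ∀ (p : ℕ) (x : G), p.Prime → (∃ a, orderOf x = p ^ a) → P x)
    (hmul : ∀ a b : G, Commute a b → a ∈ zpowers (a * b) → b ∈ zpowers (a * b) →
      P a → P b → P (a * b)) : ∀ x : G, P x := by
  suffices ∀ (n : ℕ) (x : G), orderOf x ≤ n → P x from fun x => this _ x le_rfl
  intro n
  induction n with
  | zero => intro x hx; exact absurd hx (Nat.not_le.2 (orderOf_pos x))
  | succ n ih =>
    intro x hx
    set o := orderOf x with ho
    by_cases h1 : o = 1
    · exact hpp 2 x Nat.prime_two ⟨0, by rw [← ho, h1, pow_zero]⟩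
    obtain ⟨p, hp, hpd⟩ := Nat.exists_prime_and_dvd h1
    have ho0 : o ≠ 0 := (orderOf_pos x).ne'
    set A := p ^ o.factorization p with hA
    set B := o / A with hB
    have hAB : A * B = o := Nat.mul_div_cancel' (Nat.ordProj_dvd o p)
    by_cases hB1 : B = 1
    · exact hpp p x hp ⟨o.factorization p, by rw [hB1, mul_one] at hAB; exact hAB.symm⟩
    have hcop : Nat.Coprime A B := Nat.Coprime.pow_left _ (Nat.coprime_ordCompl hp ho0)
    obtain ⟨u, v, huv⟩ : ∃ u v : ℤ, (u * A + v * B : ℤ) = 1 := by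
      obtain ⟨u, v, h⟩ := (Nat.Coprime.isCoprime hcop : IsCoprime (A : ℤ) B)
      exact ⟨u, v, h⟩
    set a := x ^ ((v * B : ℤ)) with ha
    set b := x ^ ((u * A : ℤ)) with hb
    have hab : a * b = x := by rw [ha, hb, ← zpow_add, add_comm, huv, zpow_one]
    have hxA : ∀ k : ℤ, (x ^ (k * B : ℤ)) ^ A = 1 := fun k => by
      rw [← zpow_natCast, ← zpow_mul, ← orderOf_dvd_iff_zpow_eq_one, ← ho, ← hAB]
      exact ⟨k, by push_cast; ring⟩
    have hxB : ∀ k : ℤ, (x ^ (k * A : ℤ)) ^ B = 1 := fun k => by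
      rw [← zpow_natCast, ← zpow_mul, ← orderOf_dvd_iff_zpow_eq_one, ← ho, ← hAB]
      exact ⟨k, by push_cast; ring⟩
    have hA1 : 2 ≤ A := le_trans hp.two_le (Nat.le_of_dvd (pow_pos hp.pos _) (dvd_pow_self p
      (hp.factorization_pos_of_dvd ho0 hpd).ne'))
    have hB0 : B ≠ 0 := fun h => ho0 (by rw [← hAB, h, mul_zero])
    have hB2 : 2 ≤ B := (Nat.two_le_iff B).2 ⟨hB0, hB1⟩
    have hA_lt : A < o := hAB ▸ lt_mul_of_one_lt_right (lt_of_lt_of_le two_pos hA1) hB2
    have hB_lt : B < o := hAB ▸ lt_mul_of_one_lt_left (lt_of_lt_of_le two_pos hB2) hA1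
    have hoa : orderOf a ≤ A := orderOf_le_of_pow_eq_one (by omega) (hxA v)
    have hob : orderOf b ≤ B := orderOf_le_of_pow_eq_one (Nat.pos_of_ne_zero hB0) (hxB u)
    rw [← hab]
    refine hmul a b ?_ ?_ ?_ (ih a (by omega)) (ih b (by omega))
    · exact ((Commute.refl x).zpow_zpow _ _)
    · rw [hab]; exact zpow_mem (mem_zpowers x) _
    · rw [hab]; exact zpow_mem (mem_zpowers x) _

/-- Elements of `W` built from the `Sylow` pieces. -/
theorem Good.induction {W : Subgroup G} (hW : Good W) (P : G → Prop) (h1 : P 1)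
    (hN : ∀ (p : ℕ) (N : Subgroup G), p.Prime → p ∣ Nat.card W → N ≤ W → MinNormal.IsMinNormal N →
      Cfsg.IsElementaryAbelian p N → (∀ Q : Sylow p G, (Q : Subgroup G) = N) → ∀ v ∈ N, P v)
    (hmul : ∀ a b, P a → P b → P (a * b)) : ∀ v ∈ W, P v := by
  refine parts_ind (fun v => v ∈ W → P v) (fun p v hp hv hvW => ?_)
    fun a b _ ha hb iha ihb hab => hmul a b (iha (zpowers_le.2 hab ha)) (ihb (zpowers_le.2 hab hb))
  by_cases hv1 : v = 1
  · exact hv1 ▸ h1
  obtain ⟨a, ha⟩ := hv
  have hpW : p ∣ Nat.card W := by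
    refine (dvd_pow_self p fun h0 => hv1 ?_).trans (ha ▸ orderOf_dvd_natCard W hvW)
    exact orderOf_eq_one_iff.1 (by rw [ha, h0, pow_zero])
  obtain ⟨N, hNW, hmin, hel, hsyl⟩ := hW.2.2 p hp hpW
  have := Fact.mk hp
  exact hN p N hp hpW hNW hmin hel hsyl v (mem_sylow_of_good (W := W) hsyl ⟨a, ha⟩)

/-- Coprime non-cyclic actions with transitivity on points are impossible. -/
theorem false_of_faithful (hB : AbConj G) {p q : ℕ} [hp : Fact p.Prime] [hq : Fact q.Prime]
    (hpq : p ≠ q) {W N Q J : Subgroup G} [hJ : J.Normal] (hNn : N.Normal) (hN1 : N ≠ ⊥)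
    (hNel : Cfsg.IsElementaryAbelian p N) (hWN : ∀ w ∈ W, ∀ v ∈ N, w * v = v * w)
    (hQJ : Q ≤ J) (hJ' : ∀ x ∈ J, ∃ w ∈ W, ∃ f ∈ Q, x = w * f)
    (hQW : Q ⊓ W = ⊥) (hQel : Cfsg.IsElementaryAbelian q Q) (hQnc : ¬ IsCyclic Q)
    (hWq : ∀ x ∈ W, x ^ q = 1 → x = 1)
    (hfaith : ∀ f ∈ Q, (∀ v ∈ N, f * v = v * f) → f = 1) : False := by
  classical
  -- some point is fixed by a non-trivial element
  obtain ⟨e, heQ, he1, v₀, hv₀, hv₀1, hev₀⟩ : ∃ e ∈ Q, e ≠ 1 ∧ ∃ v ∈ N, v ≠ 1 ∧ e * v = v * e := by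
    have := hQel.1
    have hNp : IsPGroup p N := fun x => ⟨1, Subtype.ext (by simpa using hNel.2 x x.2)⟩
    have hQq : IsPGroup q Q := fun x => ⟨1, Subtype.ext (by simpa using hQel.2 x x.2)⟩
    have hsup := CfsgLib.CoprimeGeneration.iSup_centralizer_eq Q N hQnc
      (by rw [normalizer_eq_top_iff.2 hNn]; exact le_top)
      (by
        obtain ⟨i, hi⟩ := hQq.exists_card_eq
        obtain ⟨j, hj⟩ := hNp.exists_card_eq
        rw [hi, hj]
        exact Nat.Coprime.pow i j ((Nat.coprime_primes hq.out hp.out).2 (Ne.symm hpq)))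
    by_contra hcon
    push Not at hcon
    refine hN1 (eq_bot_iff.2 (hsup.symm.le.trans (iSup₂_le fun e he v hv => ?_)))
    by_contra hv1
    exact hcon e he.1 he.2 v hv.1 (fun h => hv1 (mem_bot.2 h))
      (mem_centralizer_singleton_iff.1 hv.2).symm
  -- hence every point is
  have hall : ∀ v ∈ N, ∃ f ∈ Q, f ≠ 1 ∧ f * v = v * f := by
    intro v hv
    by_cases hv1 : v = 1
    · exact ⟨e, heQ, he1, by rw [hv1, mul_one, one_mul]⟩
    obtain ⟨g, hg⟩ := hB (zpowers v₀) (zpowers v) inferInstance inferInstance (by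
      rw [Nat.card_zpowers, Nat.card_zpowers, orderOf_eq_prime (hNel.2 _ hv₀) hv₀1,
        orderOf_eq_prime (hNel.2 _ hv) hv1])
    obtain ⟨z, hz, hzv⟩ := (hg ▸ mem_zpowers v :
      v ∈ (zpowers v₀).map (MulAut.conj g).toMonoidHom)
    obtain ⟨i, rfl⟩ := mem_zpowers_iff.1 hz
    have hzv' : g * v₀ ^ i * g⁻¹ = v := hzv
    have hc : (g * e * g⁻¹) * v = v * (g * e * g⁻¹) := by
      have h1 : e * v₀ ^ i = v₀ ^ i * e := ((show Commute e v₀ from hev₀).zpow_right i).eq
      rw [← hzv']
      calc g * e * g⁻¹ * (g * v₀ ^ i * g⁻¹) = g * (e * v₀ ^ i) * g⁻¹ := by group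
        _ = g * (v₀ ^ i * e) * g⁻¹ := by rw [h1]
        _ = _ := by group
    obtain ⟨w, hw, f, hf, hwf⟩ := hJ' _ (hJ.conj_mem e (hQJ heQ) g)
    refine ⟨f, hf, fun hf1 => he1 ?_, ?_⟩
    · have h2 : g * e * g⁻¹ ∈ W := by rw [hwf, hf1, mul_one]; exact hw
      have h3 := hWq _ h2 (by rw [conj_pow, hQel.2 e heQ, mul_one, mul_inv_cancel])
      exact mul_left_cancel (a := g) (by rw [mul_one]; exact mul_inv_eq_one.1 h3)
    · have hwv := hWN w hw v hv
      rw [hwf] at hc
      have h2 : w * (f * v) = w * (v * f) := by rw [← mul_assoc, hc, ← mul_assoc, ← hwv, mul_assoc]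
      exact mul_left_cancel h2
  -- a point with smallest stabiliser
  let S : G → Set G := fun v => {f | f ∈ Q ∧ f * v = v * f}
  obtain ⟨v, hv, hmin⟩ := Set.exists_min_image (N : Set G) (fun v => (S v).ncard)
    (Set.toFinite _) ⟨1, N.one_mem⟩
  obtain ⟨c, hcQ, hc1, hcv⟩ := hall v hv
  obtain ⟨u, hu, hcu⟩ : ∃ u ∈ N, c * u ≠ u * c := by
    by_contra hcon
    push Not at hcon
    exact hc1 (hfaith c hcQ hcon)
  have hcomm : ∀ a ∈ N, ∀ b ∈ N, a * b = b * a := fun a ha b hb =>
    congrArg Subtype.val (hNel.1.is_comm.comm ⟨a, ha⟩ ⟨b, hb⟩)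
  set w := c * u * c⁻¹ * u⁻¹ with hw
  have hwN : w ∈ N := N.mul_mem (hNn.conj_mem u hu c) (N.inv_mem hu)
  -- no non-trivial fixed displacement
  have hfix : ∀ t ∈ N, c * (c * t * c⁻¹ * t⁻¹) = c * t * c⁻¹ * t⁻¹ * c → c * t = t * c := by
    intro t ht hd
    set d := c * t * c⁻¹ * t⁻¹ with hdd
    have hpow : ∀ k : ℕ, c ^ k * t * (c ^ k)⁻¹ = d ^ k * t := by
      intro k
      induction k with
      | zero => simp
      | succ k ih =>
        calc c ^ (k + 1) * t * (c ^ (k + 1))⁻¹ = c * (c ^ k * t * (c ^ k)⁻¹) * c⁻¹ := by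
              rw [pow_succ']; group
          _ = c * (d ^ k * t) * c⁻¹ := by rw [ih]
          _ = (c * d ^ k * c⁻¹) * (c * t * c⁻¹) := by group
          _ = d ^ k * (c * t * c⁻¹) := by
            rw [((show Commute c d from hd).pow_right k).eq, mul_inv_cancel_right]
          _ = d ^ k * (d * t) := by rw [show c * t * c⁻¹ = d * t by rw [hdd]; group]
          _ = _ := by rw [pow_succ]; group
    have h1 := hpow q
    rw [hQel.2 c hcQ, one_mul, inv_one, mul_one] at h1
    have h2 : d ^ q = 1 := mul_eq_right.1 h1.symm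
    have h3 : d ^ p = 1 := hNel.2 d (N.mul_mem (hNn.conj_mem t ht c) (N.inv_mem ht))
    have h4 := pow_gcd_eq_one.2 ⟨h2, h3⟩
    rw [(Nat.coprime_primes hq.out hp.out).2 (Ne.symm hpq) |>.gcd_eq_one, pow_one, hdd,
      mul_inv_eq_one, mul_inv_eq_iff_eq_mul] at h4
    exact h4
  have hsub : S (v * w) ⊂ S v := by
    have hle : ∀ f, f ∈ S (v * w) → f * v = v * f ∧ f * w = w * f := by
      rintro f ⟨hfQ, hf⟩
      have hfc : f * c = c * f := congrArg Subtype.val (hQel.1.is_comm.comm ⟨f, hfQ⟩ ⟨c, hcQ⟩)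
      set a := f * v * f⁻¹ * v⁻¹ with ha
      set b := f * w * f⁻¹ * w⁻¹ with hb
      have haN : a ∈ N := N.mul_mem (hNn.conj_mem v hv f) (N.inv_mem hv)
      have hbN : b ∈ N := N.mul_mem (hNn.conj_mem w hwN f) (N.inv_mem hwN)
      have hab : b * a = 1 := by
        have h1 : f * (v * w) * f⁻¹ = v * w := by rw [hf, mul_inv_cancel_right]
        have h2 : (f * v * f⁻¹) * (f * w * f⁻¹) = v * w := by rw [← h1]; group
        have h3 : f * v * f⁻¹ = a * v := by rw [ha]; group
        have h4 : f * w * f⁻¹ = b * w := by rw [hb]; group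
        rw [h3, h4] at h2
        have h5 : a * v * (b * w) = b * a * (v * w) := by
          calc a * v * (b * w) = a * (v * b) * w := by group
            _ = a * (b * v) * w := by rw [hcomm v hv b hbN]
            _ = (a * b) * (v * w) := by group
            _ = _ := by rw [hcomm a haN b hbN]
        rw [h5] at h2
        exact mul_eq_right.1 h2
      -- `a` is fixed by `c`, `b` is a displacement
      have hca : c * a = a * c := by
        have hcv' : c * v = v * c := hcv
        have h1 : c * f⁻¹ = f⁻¹ * c := (((show Commute f c from hfc).symm).inv_right).eq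
        have h2 : c * v⁻¹ = v⁻¹ * c := ((show Commute c v from hcv').inv_right).eq
        calc c * (f * v * f⁻¹ * v⁻¹) = (c * f) * v * f⁻¹ * v⁻¹ := by group
          _ = f * (c * v) * f⁻¹ * v⁻¹ := by rw [← hfc]; group
          _ = f * v * (c * f⁻¹) * v⁻¹ := by rw [hcv']; group
          _ = f * v * f⁻¹ * (c * v⁻¹) := by rw [h1]; group
          _ = _ := by rw [h2, ha]; group
      set t := f * u * f⁻¹ * u⁻¹ with ht
      have htN : t ∈ N := N.mul_mem (hNn.conj_mem u hu f) (N.inv_mem hu)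
      have hbd : b = c * t * c⁻¹ * t⁻¹ := by
        have hcon : ∀ x ∈ N, ∀ y ∈ N, x * y = y * x := hcomm
        have e1 : f * w * f⁻¹ = (c * (f * u * f⁻¹) * c⁻¹) * (f * u * f⁻¹)⁻¹ := by
          rw [hw]
          calc f * (c * u * c⁻¹ * u⁻¹) * f⁻¹
              = (f * c) * u * (f * c)⁻¹ * (f * u * f⁻¹)⁻¹ := by group
            _ = (c * f) * u * (c * f)⁻¹ * (f * u * f⁻¹)⁻¹ := by rw [hfc]
            _ = _ := by group
        have h3 : f * u * f⁻¹ = t * u := by rw [ht]; group
        rw [hb, e1, h3]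
        have hC : c * t * c⁻¹ ∈ N := hNn.conj_mem t htN c
        calc c * (t * u) * c⁻¹ * (t * u)⁻¹ * w⁻¹
            = (c * t * c⁻¹) * ((c * u * c⁻¹ * u⁻¹) * t⁻¹) * w⁻¹ := by group
          _ = (c * t * c⁻¹) * (t⁻¹ * w) * w⁻¹ := by
            rw [← hw, hcomm w hwN t⁻¹ (N.inv_mem htN)]
          _ = _ := by group
      have hcb : c * b = b * c := by
        rw [eq_inv_of_mul_eq_one_left hab]
        exact ((show Commute c a from hca).inv_right).eq
      have ht1 : c * t = t * c := hfix t htN (hbd ▸ hcb)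
      have hb1 : b = 1 := by rw [hbd, mul_inv_eq_one, mul_inv_eq_iff_eq_mul, ht1]
      have ha1 : a = 1 := by rw [hb1, one_mul] at hab; exact hab
      refine ⟨?_, ?_⟩
      · rwa [ha, mul_inv_eq_one, mul_inv_eq_iff_eq_mul] at ha1
      · rwa [hb, mul_inv_eq_one, mul_inv_eq_iff_eq_mul] at hb1
    refine ⟨fun f hf => ⟨hf.1, (hle f hf).1⟩, fun hge => ?_⟩
    exact hcu (hfix u hu (hle c (hge ⟨hcQ, hcv⟩)).2)
  exact absurd (hmin (v * w) (N.mul_mem hv hwN)) (not_le.2 (Set.ncard_lt_ncard hsub))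

/-- Modulo a maximal good subgroup the minimal normal subgroups have prime order. -/
theorem prime_minNormal (hB : AbConj G) [Group.IsSolvable G] {W : Subgroup G} [W.Normal] (hW : Good W)
    (hmax : ∀ W' : Subgroup G, Good W' → Nat.card W' ≤ Nat.card W) {M : Subgroup (G ⧸ W)}
    (hM : MinNormal.IsMinNormal M) : (Nat.card M).Prime := by
  obtain ⟨q, hq, hel, -⟩ := hM.elementaryAbelian_of_solvable
  have := Fact.mk hq
  have hMn : M.Normal := hM.1
  have hMp : IsPGroup q M := fun x => ⟨1, Subtype.ext (by simpa using hel.2 x x.2)⟩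
  obtain ⟨u, hu⟩ := hMp.exists_card_eq
  rcases Nat.lt_or_ge u 2 with hu2 | hu2
  · interval_cases u
    · exact absurd (card_eq_one.1 (by rw [hu, pow_zero])) hM.2.1
    · rwa [hu, pow_one]
  exfalso
  have hBq : AbConj (G ⧸ W) := solvable_abConj_quotient_aux _ G le_rfl hB inferInstance W
  have hMS := (Cfsg.Agent.S3909.result hBq M).2 q u hu2 hu hel
  have hqW : ¬ q ∣ Nat.card W := fun hd => hq.not_dvd_one (by
    have h2 : q ∣ W.index := by
      rw [index_eq_card]
      exact (hu ▸ dvd_pow_self q (by omega)).trans (card_subgroup_dvd_card M)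
    exact hW.coprime ▸ Nat.dvd_gcd hd h2)
  let Q : Sylow q G := default
  have hQM : (Q : Subgroup G).map (QuotientGroup.mk' W) = M :=
    hMS (Q.mapSurjective (QuotientGroup.mk'_surjective W))
  have hQW : (Q : Subgroup G) ⊓ W = ⊥ := inf_eq_bot_of_coprime (by
    obtain ⟨n, hn⟩ := Q.2.exists_card_eq
    rw [hn]
    exact Nat.Coprime.pow_left n (hq.coprime_iff_not_dvd.2 hqW))
  have hQc : Nat.card (Q : Subgroup G) = q ^ u := by
    have h1 := card_map_mk W (Q : Subgroup G)
    rw [hQM, hQW, hu, card_bot, mul_one] at h1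
    exact h1.symm
  have hin : ∀ f ∈ (Q : Subgroup G), QuotientGroup.mk' W f = 1 → f = 1 := fun f hf h1 =>
    mem_bot.1 (hQW ▸ ⟨hf, (QuotientGroup.eq_one_iff f).1 h1⟩)
  have hQmem : ∀ f ∈ (Q : Subgroup G), QuotientGroup.mk' W f ∈ M := fun f hf =>
    hQM ▸ mem_map_of_mem _ hf
  have hQel : Cfsg.IsElementaryAbelian q (Q : Subgroup G) := by
    refine ⟨⟨⟨fun a b => Subtype.ext (commutatorElement_eq_one_iff_mul_comm.1 ?_)⟩⟩, fun a ha => ?_⟩
    · refine hin _ ?_ ?_
      · rw [commutatorElement_def]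
        exact mul_mem (mul_mem (mul_mem a.2 b.2) (inv_mem a.2)) (inv_mem b.2)
      · rw [map_commutatorElement, commutatorElement_eq_one_iff_mul_comm]
        exact congrArg Subtype.val (hel.1.is_comm.comm ⟨_, hQmem _ a.2⟩ ⟨_, hQmem _ b.2⟩)
    · exact hin _ (pow_mem ha q) (by rw [map_pow, hel.2 _ (hQmem a ha)])
  set J : Subgroup G := M.comap (QuotientGroup.mk' W) with hJ
  have hJn : J.Normal := hMn.comap _
  have hJeq : J = (Q : Subgroup G) ⊔ W := by
    rw [hJ, ← hQM, comap_map_eq, QuotientGroup.ker_mk']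
  have hJ' : ∀ x ∈ J, ∃ w ∈ W, ∃ f ∈ (Q : Subgroup G), x = w * f := by
    intro x hx
    rw [hJeq, sup_comm, ← SetLike.mem_coe, normal_mul] at hx
    obtain ⟨w, hw, f, hf, rfl⟩ := hx
    exact ⟨w, hw, f, hf, rfl⟩
  have hWab : ∀ a ∈ W, ∀ b ∈ W, a * b = b * a := fun a ha b hb =>
    congrArg Subtype.val (hW.2.1.is_comm.comm ⟨a, ha⟩ ⟨b, hb⟩)
  have hWq : ∀ x ∈ W, x ^ q = 1 → x = 1 := fun x hx h1 => by
    by_contra hx1
    exact hqW ((orderOf_eq_prime h1 hx1) ▸ orderOf_dvd_natCard W hx)
  by_cases hcent : ∀ w ∈ W, ∀ f ∈ (Q : Subgroup G), f * w = w * f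
  · -- `Q` could be added to `W`
    have hQn : (Q : Subgroup G).Normal := by
      refine ⟨fun f hf g => ?_⟩
      obtain ⟨w, hw, f', hf', e⟩ := hJ' _ (hJn.conj_mem f (hJeq ▸ mem_sup_left hf) g)
      have h1 : (g * f * g⁻¹) ^ q = 1 := by rw [conj_pow, hQel.2 f hf, mul_one, mul_inv_cancel]
      rw [e, (show Commute w f' from (hcent w hw f' hf').symm).mul_pow, hQel.2 f' hf', mul_one] at h1
      rw [e, hWq w hw h1, one_mul]
      exact hf'
    have hQmin : MinNormal.IsMinNormal (Q : Subgroup G) := by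
      refine ⟨hQn, fun h0 => ?_, fun K hK hKQ => ?_⟩
      · rw [h0, card_bot] at hQc
        have := Nat.one_lt_pow (by omega : u ≠ 0) hq.one_lt
        omega
      · rcases hM.2.2 (K.map (QuotientGroup.mk' W)) (hK.map _ (QuotientGroup.mk'_surjective W))
          (hQM ▸ map_mono hKQ) with h | h
        · exact Or.inl (eq_bot_iff.2 fun k hk => mem_bot.2 (hin k (hKQ hk) (by
            have := mem_map_of_mem (QuotientGroup.mk' W) hk
            rwa [h, mem_bot] at this)))
        · refine Or.inr (eq_of_le_of_card_ge hKQ ?_)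
          rw [hQc, ← hu, ← h]
          exact Nat.le_of_dvd Nat.card_pos (card_map_dvd _ _)
    have hgood : Good (W ⊔ (Q : Subgroup G)) := by
      refine ⟨inferInstance, ⟨⟨fun a b => Subtype.ext ?_⟩⟩, fun p hp hd => ?_⟩
      · obtain ⟨a, ha⟩ := a
        obtain ⟨b, hb⟩ := b
        rw [sup_comm, ← hJeq] at ha hb
        obtain ⟨w, hw, f, hf, rfl⟩ := hJ' a ha
        obtain ⟨w', hw', f', hf', rfl⟩ := hJ' b hb
        show w * f * (w' * f') = w' * f' * (w * f)
        have e : f * f' = f' * f := congrArg Subtype.val (hQel.1.is_comm.comm ⟨f, hf⟩ ⟨f', hf'⟩)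
        calc w * f * (w' * f') = w * (f * w') * f' := by group
          _ = w * (w' * f) * f' := by rw [hcent w' hw' f hf]
          _ = (w * w') * (f * f') := by group
          _ = (w' * w) * (f' * f) := by rw [hWab w hw w' hw', e]
          _ = w' * (w * f') * f := by group
          _ = w' * (f' * w) * f := by rw [hcent w hw f' hf']
          _ = _ := by group
      · have := Fact.mk hp
        rcases hp.dvd_mul.1 (hd.trans (PCore.card_sup_dvd_mul W (Q : Subgroup G))) with h | h
        · obtain ⟨N, h1, h2, h3, h4⟩ := hW.2.2 p hp h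
          exact ⟨N, h1.trans le_sup_left, h2, h3, h4⟩
        · rw [hQc] at h
          obtain rfl := (Nat.prime_dvd_prime_iff_eq hp hq).1 (hp.dvd_of_dvd_pow h)
          refine ⟨Q, le_sup_right, hQmin, hQel, fun P => ?_⟩
          have := Sylow.unique_of_normal Q hQn
          rw [Subsingleton.elim P Q]
    have hlt : Nat.card W < Nat.card (W ⊔ (Q : Subgroup G) : Subgroup G) := by
      by_contra hge
      have heq := eq_of_le_of_card_ge (le_sup_left : W ≤ W ⊔ (Q : Subgroup G)) (not_lt.1 hge)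
      have hQle : (Q : Subgroup G) ≤ W := heq ▸ le_sup_right
      rw [inf_eq_left.2 hQle] at hQW
      exact hQmin.2.1 hQW
    exact absurd (hmax _ hgood) (not_le.2 hlt)
  obtain ⟨p, N, hp, hpW, hNW, hmin, hNel, hnc⟩ : ∃ (p : ℕ) (N : Subgroup G), p.Prime ∧
      p ∣ Nat.card W ∧ N ≤ W ∧ MinNormal.IsMinNormal N ∧ Cfsg.IsElementaryAbelian p N ∧
      ∃ f ∈ (Q : Subgroup G), ∃ v ∈ N, f * v ≠ v * f := by
    by_contra hcon
    push Not at hcon
    refine hcent (hW.induction (fun w => ∀ f ∈ (Q : Subgroup G), f * w = w * f)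
      (fun f _ => by rw [mul_one, one_mul]) (fun p N hp h1 h2 h3 h4 _ v hv f hf => ?_)
      fun a b ha hb f hf => ?_)
    · exact hcon p N hp h1 h2 h3 h4 f hf v hv
    · exact ((show Commute f a from ha f hf).mul_right (hb f hf)).eq
  have := Fact.mk hp
  have hpq : p ≠ q := fun e => hqW (e ▸ hpW)
  have hWN : ∀ w ∈ W, ∀ v ∈ N, w * v = v * w := fun w hw v hv => hWab w hw v (hNW hv)
  have hfaith : ∀ f ∈ (Q : Subgroup G), (∀ v ∈ N, f * v = v * f) → f = 1 := by
    intro f hf hfv
    have := hmin.1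
    set K := centralizer (N : Set G) ⊓ J with hK
    rcases hM.2.2 (K.map (QuotientGroup.mk' W))
      ((inferInstance : K.Normal).map _ (QuotientGroup.mk'_surjective W))
      (map_le_iff_le_comap.2 inf_le_right) with h | h
    · refine hin f hf ?_
      have h1 : QuotientGroup.mk' W f ∈ K.map (QuotientGroup.mk' W) := mem_map_of_mem _
        ⟨mem_centralizer_iff.2 fun v hv => (hfv v hv).symm, hJeq ▸ mem_sup_left hf⟩
      rwa [h, mem_bot] at h1
    · exfalso
      obtain ⟨f₀, hf₀, v, hv, hne⟩ := hnc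
      obtain ⟨k, hk, hkf⟩ : QuotientGroup.mk' W f₀ ∈ K.map (QuotientGroup.mk' W) := h ▸ hQmem f₀ hf₀
      have hw : k⁻¹ * f₀ ∈ W := QuotientGroup.eq.1 hkf
      refine hne ?_
      have h1 : Commute k v := ((mem_centralizer_iff.1 hk.1) v hv).symm
      have h2 : Commute (k⁻¹ * f₀) v := hWN _ hw v hv
      simpa using (h1.mul_left h2).eq
  refine false_of_faithful (q := q) hB hpq hmin.1 hmin.2.1 hNel hWN (hJeq ▸ le_sup_left) hJ' hQW hQel ?_
    hWq hfaith
  intro hc
  obtain ⟨c, hc'⟩ := hc.exists_generator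
  have h1 := orderOf_eq_card_of_forall_mem_zpowers hc'
  have h2 : orderOf c ∣ q := orderOf_dvd_of_pow_eq_one (Subtype.ext (hQel.2 c c.2))
  rw [h1, hQc] at h2
  have h3 := Nat.le_of_dvd hq.pos h2
  have : q ^ 2 ≤ q ^ u := Nat.pow_le_pow_right hq.pos hu2
  nlinarith [hq.two_le]

section PrimeMinNormal

variable (hB : AbConj G) (hmn : ∀ M : Subgroup G, MinNormal.IsMinNormal M → (Nat.card M).Prime)

include hB hmn in
/-- With `O_q` non-trivial there is only one subgroup of order `q`. -/
theorem unique_of_core {q : ℕ} [hq : Fact q.Prime] (hq1 : Cfsg.pCore q G ≠ ⊥) {a b : G}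
    (ha : orderOf a = q) (hb : orderOf b = q) : b ∈ zpowers a := by
  obtain ⟨M, hM, hMle⟩ := MinNormal.exists_isMinNormal_le (Fitting.pCore_normal q) hq1
  have := hM.1
  obtain ⟨n, hn⟩ := ((Fitting.pCore_isPGroup q).to_le hMle).exists_card_eq
  have hMq : Nat.card M = q := by
    have h1 := hmn M hM
    rw [hn] at h1 ⊢
    rw [Nat.Prime.eq_one_of_pow h1, pow_one]
  obtain ⟨⟨m, hm⟩, hmo⟩ := exists_prime_orderOf_dvd_card' (G := M) q (dvd_of_eq hMq.symm)
  rw [orderOf_mk] at hmo
  have haM := hB.mem_normal hm (hmo.trans ha.symm)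
  have hbM := hB.mem_normal hm (hmo.trans hb.symm)
  rwa [eq_of_le_of_card_ge (zpowers_le.2 haM) (by rw [Nat.card_zpowers, ha, hMq])]

include hB in
theorem centralizes_of_one {q : ℕ} (R : Subgroup G) [R.Normal] {e : G} (he : e ∈ centralizer (R : Set G))
    (heo : orderOf e = q) {x : G} (hx : orderOf x = q) : x ∈ centralizer (R : Set G) :=
  hB.mem_normal he (heo.trans hx.symm)

omit [Finite G] in
/-- The facts about a non-cyclic group of order eight with one involution. -/
theorem eight_facts {P : Subgroup G} (hP : Nat.card P = 8) (hnc : ¬ IsCyclic P)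
    (huniq : ∀ a ∈ P, ∀ b ∈ P, orderOf a = 2 → orderOf b = 2 → a = b) :
    ∃ z ∈ P, orderOf z = 2 ∧ (∀ x ∈ P, x = 1 ∨ x = z ∨ (orderOf x = 4 ∧ x ^ 2 = z)) ∧
      (∀ x ∈ P, z * x = x * z) ∧
      ∀ i ∈ P, ∀ j ∈ P, orderOf i = 4 → j ∉ zpowers i → orderOf j = 4 ∧ orderOf (i * j) = 4 ∧
        i * j * i⁻¹ * j⁻¹ = z := by
  have hfin : Finite P := Nat.finite_of_card_ne_zero (by omega)
  have hp2 : Fact (Nat.Prime 2) := ⟨Nat.prime_two⟩
  obtain ⟨⟨z, hz⟩, hzo⟩ := exists_prime_orderOf_dvd_card' (G := P) 2 (by rw [hP]; norm_num)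
  rw [orderOf_mk] at hzo
  have hord : ∀ x ∈ P, orderOf x = 1 ∨ orderOf x = 2 ∨ orderOf x = 4 := by
    intro x hx
    have h1 : orderOf x ∣ 8 := hP ▸ orderOf_dvd_natCard P hx
    have h8 : orderOf x ≠ 8 := fun e => hnc (isCyclic_of_orderOf_eq_card ⟨x, hx⟩
      (by rw [orderOf_mk, e, hP]))
    have hle := Nat.le_of_dvd (by norm_num) h1
    interval_cases hh : orderOf x <;> simp_all
  have hx2 : ∀ x ∈ P, orderOf x = 4 → x ^ 2 = z := fun x hx h4 =>
    huniq _ (pow_mem hx 2) z hz (by rw [orderOf_pow_of_dvd two_ne_zero (by rw [h4]; norm_num), h4]) hzo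
  have hall : ∀ x ∈ P, x = 1 ∨ x = z ∨ (orderOf x = 4 ∧ x ^ 2 = z) := by
    intro x hx
    rcases hord x hx with h | h | h
    · exact Or.inl (orderOf_eq_one_iff.1 h)
    · exact Or.inr (Or.inl (huniq x hx z hz h hzo))
    · exact Or.inr (Or.inr ⟨h, hx2 x hx h⟩)
  have hzc : ∀ x ∈ P, z * x = x * z := by
    intro x hx
    rcases hall x hx with rfl | rfl | ⟨-, h⟩
    · rw [mul_one, one_mul]
    · rfl
    · rw [← h, pow_two, mul_assoc]
  refine ⟨z, hz, hzo, hall, hzc, fun i hi j hj hi4 hji => ?_⟩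
  have hiz : i ^ 2 = z := hx2 i hi hi4
  have hzi : z ∈ zpowers i := hiz ▸ pow_mem (mem_zpowers i) 2
  have h4 : ∀ x ∈ P, x ∉ zpowers i → orderOf x = 4 ∧ x ^ 2 = z := by
    intro x hx hxi
    rcases hall x hx with rfl | rfl | h
    · exact absurd (one_mem _) hxi
    · exact absurd hzi hxi
    · exact h
  have hij : i * j ∉ zpowers i := fun h => hji ((zpowers i).mul_mem_cancel_left (mem_zpowers i) |>.1 h)
  obtain ⟨hj4, hjz⟩ := h4 j hj hji
  obtain ⟨hij4, hijz⟩ := h4 (i * j) (mul_mem hi hj) hij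
  refine ⟨hj4, hij4, ?_⟩
  have hzz : z * z = 1 := by rw [← pow_two, ← hzo, pow_orderOf_eq_one]
  have hiinv : i⁻¹ = i * z := by
    apply inv_eq_of_mul_eq_one_right
    rw [← mul_assoc, ← pow_two, hiz, hzz]
  have hjinv : j⁻¹ = j * z := by
    apply inv_eq_of_mul_eq_one_right
    rw [← mul_assoc, ← pow_two, hjz, hzz]
  calc i * j * i⁻¹ * j⁻¹ = i * j * (i * z) * (j * z) := by rw [hiinv, hjinv]
    _ = (i * j * i) * (z * j) * z := by group
    _ = (i * j * i) * (j * z) * z := by rw [hzc j hj]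
    _ = (i * j) ^ 2 * (z * z) := by rw [pow_two]; group
    _ = z := by rw [hzz, mul_one, hijz]

include hB in
/-- Sylow subgroups with one subgroup of prime order. -/
theorem cases_of_unique [Group.IsSolvable G] {r : ℕ} [hr : Fact r.Prime] (P : Sylow r G)
    (huniq : ∀ a ∈ (P : Subgroup G), ∀ b ∈ (P : Subgroup G), orderOf a = r → orderOf b = r →
      b ∈ zpowers a) :
    IsCyclic ↥(P : Subgroup G) ∨ (r = 2 ∧ Nat.card (P : Subgroup G) = 8 ∧
      ∀ a ∈ (P : Subgroup G), ∀ b ∈ (P : Subgroup G), orderOf a = 2 → orderOf b = 2 → a = b) := by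
  by_cases hr2 : r = 2
  · subst hr2
    have huniq2 : ∀ a ∈ (P : Subgroup G), ∀ b ∈ (P : Subgroup G), orderOf a = 2 → orderOf b = 2 →
        a = b := by
      intro a ha b hb ha2 hb2
      obtain ⟨i, hi⟩ := mem_zpowers_iff.1 (huniq a ha b hb ha2 hb2)
      rw [← zpow_mod_orderOf, ha2] at hi
      rcases Int.emod_two_eq i with h2 | h2 <;> simp [h2] at hi
      · rw [← hi, orderOf_one] at hb2
        exact absurd hb2 (by norm_num)
      · exact hi
    rcases CfsgLib.TwoGroups.OneInvolution.isCyclic_or_quaternion P.2 (fun a b ha hb => Subtype.ext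
      (huniq2 a a.2 b b.2 ((orderOf_coe a).trans ha) ((orderOf_coe b).trans hb))) with hc | ⟨n, hn, ⟨e⟩⟩
    · exact Or.inl hc
    · have hn1 := hB.quaternion_eight P n e
      refine Or.inr ⟨rfl, ?_, huniq2⟩
      have : n = 1 := by omega
      subst this
      rw [Nat.card_congr e.toEquiv, Nat.card_eq_fintype_card, QuaternionGroup.card]
      rfl
  · refine Or.inl (CfsgLib.ConstStab.isCyclic_of_unique_prime_subgroup hr2 P.2 ?_)
    intro x y hx1 hxp hyp
    by_cases hy1 : y = 1
    · rw [hy1]; exact one_mem _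
    obtain ⟨i, hi⟩ := mem_zpowers_iff.1 (huniq x x.2 y y.2
      (by rw [orderOf_coe, orderOf_eq_prime hxp hx1]) (by rw [orderOf_coe, orderOf_eq_prime hyp hy1]))
    exact ⟨i, Subtype.ext (by simpa using hi)⟩

include hB hmn in
/-- No elementary abelian subgroup of order `q²`. -/
theorem no_elem_sq [Group.IsSolvable G] {q : ℕ} [hq : Fact q.Prime] {E : Subgroup G}
    (hE : Cfsg.IsElementaryAbelian q E) (hEc : Nat.card E = q ^ 2) : False := by
  classical
  have hord : ∀ e ∈ E, e ≠ 1 → orderOf e = q := fun e he h1 => orderOf_eq_prime (hE.2 e he) h1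
  by_cases hq1 : Cfsg.pCore q G ≠ ⊥
  · obtain ⟨⟨a, ha⟩, hao⟩ := exists_prime_orderOf_dvd_card' (G := E) q (hEc ▸ dvd_pow_self q two_ne_zero)
    rw [orderOf_mk] at hao
    have hle : E ≤ zpowers a := fun e he => by
      by_cases h1 : e = 1
      · rw [h1]; exact one_mem _
      · exact unique_of_core hB hmn hq1 hao (hord e he h1)
    have := Nat.le_of_dvd Nat.card_pos (card_dvd_of_le hle)
    rw [hEc, Nat.card_zpowers, hao] at this
    nlinarith [hq.out.two_le]
  push Not at hq1
  have hEnc : ¬ IsCyclic E := by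
    intro hc
    obtain ⟨c, hc'⟩ := hc.exists_generator
    have h1 := orderOf_eq_card_of_forall_mem_zpowers hc'
    have h2 : orderOf c ∣ q := orderOf_dvd_of_pow_eq_one (Subtype.ext (hE.2 c c.2))
    rw [h1, hEc] at h2
    nlinarith [hq.out.two_le, Nat.le_of_dvd hq.out.pos h2]
  have hcent : ∀ r : ℕ, r.Prime → E ≤ centralizer (Cfsg.pCore r G : Set G) := by
    intro r hr
    have := Fact.mk hr
    by_cases hr1 : Cfsg.pCore r G = ⊥
    · intro e _
      rw [hr1]
      exact mem_centralizer_iff.2 fun x hx => by simp [mem_bot.1 (hx : x ∈ (⊥ : Subgroup G))]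
    have hrq : r ≠ q := fun e => hr1 (e ▸ hq1)
    set R := Cfsg.pCore r G with hR
    have hRn : R.Normal := Fitting.pCore_normal r
    by_contra hnot
    have hnone : ∀ e ∈ E, e ≠ 1 → e ∉ centralizer (R : Set G) := fun e he h1 hec =>
      hnot fun x hx => by
        by_cases hx1 : x = 1
        · rw [hx1]; exact one_mem _
        · exact centralizes_of_one hB R hec (hord e he h1) (hord x hx hx1)
    have := hE.1
    obtain ⟨i, hi⟩ := (Fitting.pCore_isPGroup (G := G) r).exists_card_eq
    have hsup := CfsgLib.CoprimeGeneration.iSup_centralizer_eq E R hEnc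
      (by rw [normalizer_eq_top_iff.2 hRn]; exact le_top) (by
        rw [hEc, hi]; exact Nat.Coprime.pow 2 i ((Nat.coprime_primes hq.out hr).2 (Ne.symm hrq)))
    have hproper : ∀ e ∈ E, e ≠ 1 → R ⊓ centralizer ({e} : Set G) < R := fun e he h1 =>
      lt_of_le_of_ne inf_le_left fun h => hnone e he h1 (mem_centralizer_iff.2 fun x hx => by
        have h2 : x ∈ R ⊓ centralizer ({e} : Set G) := h.symm ▸ hx
        exact mem_centralizer_singleton_iff.1 h2.2)
    obtain ⟨P, hP⟩ := (Fitting.pCore_isPGroup (G := G) r).exists_le_sylow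
    have huP : ∀ a ∈ (P : Subgroup G), ∀ b ∈ (P : Subgroup G), orderOf a = r → orderOf b = r →
        b ∈ zpowers a := fun a _ b _ ha hb => unique_of_core hB hmn hr1 ha hb
    -- one proper subgroup contains all fixed subgroups
    obtain ⟨K, hKlt, hK⟩ : ∃ K : Subgroup G, Nat.card K < Nat.card R ∧
        ∀ e ∈ E, e ≠ 1 → R ⊓ centralizer ({e} : Set G) ≤ K := by
      have hi0 : i ≠ 0 := fun h0 => hr1 (card_eq_one.1 (by rw [hi, h0, pow_zero]))
      have cyc : IsCyclic R → ∃ K : Subgroup G, Nat.card K < Nat.card R ∧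
          ∀ e ∈ E, e ≠ 1 → R ⊓ centralizer ({e} : Set G) ≤ K := by
        intro hRc
        obtain ⟨K₀, hK₀⟩ := Sylow.exists_subgroup_card_pow_prime (G := R) r (n := i - 1)
          (hi ▸ pow_dvd_pow r (Nat.sub_le _ _))
        refine ⟨K₀.map R.subtype, ?_, fun e he h1 v hv => ?_⟩
        · rw [card_map_of_injective R.subtype_injective, hK₀, hi]
          exact Nat.pow_lt_pow_right hr.one_lt (by omega)
        · obtain ⟨j, hji, hj⟩ := (Nat.dvd_prime_pow hr).1
            (hi ▸ card_dvd_of_le (inf_le_left : R ⊓ centralizer ({e} : Set G) ≤ R))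
          have hjlt : j ≠ i := fun e' => (hproper e he h1).ne
            (eq_of_le_of_card_ge inf_le_left (by rw [hj, hi, e']))
          have hle : (R ⊓ centralizer ({e} : Set G)).subgroupOf R ≤ K₀ :=
            CfsgLib.BGroup.le_of_card_dvd_of_cyclic (by
              rw [Nat.card_congr (subgroupOfEquivOfLe inf_le_left).toEquiv, hj, hK₀]
              exact pow_dvd_pow r (by omega))
          exact ⟨⟨v, hv.1⟩, hle (mem_subgroupOf.2 hv), rfl⟩
      rcases cases_of_unique hB P huP with hPc | ⟨hr2, hP8, hu2⟩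
      · exact cyc (isCyclic_of_le hP)
      subst hr2
      by_cases hR8 : Nat.card R = 8
      · have hPR : R = (P : Subgroup G) := eq_of_le_of_card_ge hP (by rw [hP8, hR8])
        obtain ⟨⟨z, hz⟩, hzo⟩ := exists_prime_orderOf_dvd_card' (G := R) 2 (by rw [hR8]; norm_num)
        rw [orderOf_mk] at hzo
        refine ⟨zpowers z, by rw [Nat.card_zpowers, hzo, hR8]; norm_num, fun e he h1 => ?_⟩
        set C := R ⊓ centralizer ({e} : Set G) with hC
        obtain ⟨j, hji, hj⟩ := (Nat.dvd_prime_pow hr).1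
          (show Nat.card C ∣ 2 ^ 3 from (card_dvd_of_le inf_le_left).trans (by rw [hR8]; norm_num))
        have hj3 : j ≠ 3 := fun e' => (hproper e he h1).ne
          (eq_of_le_of_card_ge inf_le_left (by rw [hj, e', hR8]; norm_num))
        have hj2 : j ≠ 2 := by
          intro e'
          obtain ⟨v, hvR, hvC⟩ := SetLike.exists_of_lt (hproper e he h1)
          have hidx : (C.subgroupOf R).index = 2 := by
            have h3 := (C.subgroupOf R).card_mul_index
            rw [Nat.card_congr (subgroupOfEquivOfLe (inf_le_left : C ≤ R)).toEquiv, hj, e', hR8] at h3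
            omega
          have hev : e * v * e⁻¹ ∈ R := hRn.conj_mem v hvR e
          have hevC : e * v * e⁻¹ ∉ C := by
            intro hm
            apply hvC
            refine ⟨hvR, mem_centralizer_singleton_iff.2 ?_⟩
            have hh : e * v * e⁻¹ * e = e * (e * v * e⁻¹) := mem_centralizer_singleton_iff.1 hm.2
            rw [inv_mul_cancel_right] at hh
            have := mul_left_cancel hh
            calc v * e = (e * v * e⁻¹) * e := by rw [← this]
              _ = _ := by group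
          have hd : v⁻¹ * (e * v * e⁻¹) ∈ C := by
            have h7 := (mul_mem_iff_of_index_two hidx (a := (⟨v, hvR⟩ : R)⁻¹) (b := ⟨_, hev⟩)).2
              (iff_of_false (fun h => hvC (by
                have h' : v ∈ C := mem_subgroupOf.1 (inv_mem_iff.1 h)
                exact h')) (fun h => hevC (mem_subgroupOf.1 h)))
            exact mem_subgroupOf.1 h7
          set d := v⁻¹ * (e * v * e⁻¹) with hdd
          have hed : e * d = d * e := (mem_centralizer_singleton_iff.1 hd.2).symm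
          have hpw : ∀ k : ℕ, e ^ k * v * (e ^ k)⁻¹ = v * d ^ k := by
            intro k
            induction k with
            | zero => simp
            | succ k ih =>
              calc e ^ (k + 1) * v * (e ^ (k + 1))⁻¹ = e * (e ^ k * v * (e ^ k)⁻¹) * e⁻¹ := by
                    rw [pow_succ']; group
                _ = e * (v * d ^ k) * e⁻¹ := by rw [ih]
                _ = (e * v * e⁻¹) * (e * d ^ k * e⁻¹) := by group
                _ = (v * d) * d ^ k := by
                  rw [((show Commute e d from hed).pow_right k).eq, mul_inv_cancel_right,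
                    show e * v * e⁻¹ = v * d by rw [hdd]; group]
                _ = _ := by rw [pow_succ']; group
          have h5 := hpw q
          rw [hE.2 e he, one_mul, inv_one, mul_one] at h5
          have hdq : d ^ q = 1 := mul_eq_left.1 h5.symm
          have hd4 : d ^ (2 ^ 2) = 1 := by
            rw [show 2 ^ 2 = Nat.card C by rw [hj, e']]
            exact orderOf_dvd_iff_pow_eq_one.1 (orderOf_dvd_natCard C hd)
          have h6 := pow_gcd_eq_one.2 ⟨hdq, hd4⟩
          rw [(Nat.Coprime.pow_right 2 ((Nat.coprime_primes hq.out hr).2 (Ne.symm hrq))).gcd_eq_one,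
            pow_one] at h6
          apply hvC
          refine ⟨hvR, mem_centralizer_singleton_iff.2 ?_⟩
          rw [hdd, inv_mul_eq_one, eq_mul_inv_iff_mul_eq] at h6
          exact h6
        intro v hv
        by_cases hv1 : v = 1
        · rw [hv1]; exact one_mem _
        have hdvd : orderOf v ∣ 2 := by
          have h3 := orderOf_dvd_natCard C hv
          rw [hj] at h3
          exact h3.trans ((pow_dvd_pow 2 (by omega : j ≤ 1)).trans (by norm_num))
        rcases (Nat.dvd_prime hr).1 hdvd with h3 | h3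
        · exact absurd (orderOf_eq_one_iff.1 h3) hv1
        · rw [hu2 v (hP hv.1) z (hP hz) h3 hzo]; exact mem_zpowers z
      · -- smaller core: it is cyclic
        refine cyc ?_
        rcases CfsgLib.TwoGroups.OneInvolution.isCyclic_or_quaternion (Fitting.pCore_isPGroup 2)
          (fun (a b : R) (ha : orderOf a = 2) (hb : orderOf b = 2) =>
            Subtype.ext (hu2 (a : G) (hP a.2) (b : G) (hP b.2) ((orderOf_coe a).trans ha)
              ((orderOf_coe b).trans hb))) with hc | ⟨n, hn, ⟨e⟩⟩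
        · exact hc
        · exfalso
          apply hR8
          have h1 := card_dvd_of_le hP
          have h2 : Nat.card R = 4 * 2 ^ n := by
            rw [Nat.card_congr e.toEquiv, Nat.card_eq_fintype_card, QuaternionGroup.card]
          rw [hP8, h2] at h1
          have h3 : 4 * 2 ^ n ≤ 8 := Nat.le_of_dvd (by norm_num) h1
          have h4 : 2 ^ 1 ≤ 2 ^ n := Nat.pow_le_pow_right (by norm_num) hn
          rw [h2]; omega
    have hle : R ≤ K := by
      rw [← hsup]
      exact iSup₂_le fun e he => hK e he.1 he.2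
    exact absurd (Nat.le_of_dvd Nat.card_pos (card_dvd_of_le hle)) (not_le.2 hKlt)
  have hEF : E ≤ Cfsg.fittingSubgroup G := by
    refine le_trans ?_ Fitting.centralizer_fitting_le
    intro e he
    have hle : Cfsg.fittingSubgroup G ≤ centralizer ({e} : Set G) := by
      rw [Fitting.fitting_eq_iSup_pCore]
      refine iSup_le fun r x hx => mem_centralizer_singleton_iff.2 ?_
      exact mem_centralizer_iff.1 (hcent r (Nat.prime_of_mem_primeFactors r.2) he) x hx
    exact mem_centralizer_iff.2 fun x hx => mem_centralizer_singleton_iff.1 (hle hx)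
  obtain ⟨⟨a, ha⟩, hao⟩ := exists_prime_orderOf_dvd_card' (G := E) q (hEc ▸ dvd_pow_self q two_ne_zero)
  rw [orderOf_mk] at hao
  obtain ⟨S, hS⟩ := (IsPGroup.of_card (n := 1)
    (by rw [Nat.card_zpowers, orderOf_mk, hao, pow_one]) :
      IsPGroup q (zpowers (⟨a, hEF ha⟩ : Cfsg.fittingSubgroup G))).exists_le_sylow
  have h1 : a ∈ Cfsg.pCore q G := Fitting.sylow_fitting_eq_pCore S ▸ ⟨_, hS (mem_zpowers _), rfl⟩
  rw [hq1, mem_bot] at h1
  rw [h1, orderOf_one] at hao
  exact hq.out.ne_one hao.symm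

include hB hmn in
/-- Every Sylow subgroup has a single subgroup of prime order. -/
theorem unique_in_sylow [Group.IsSolvable G] {r : ℕ} [hr : Fact r.Prime] (P : Sylow r G) :
    ∀ a ∈ (P : Subgroup G), ∀ b ∈ (P : Subgroup G), orderOf a = r → orderOf b = r →
      b ∈ zpowers a := by
  intro a ha b hb hao hbo
  by_contra hab
  have : Nontrivial ↥(P : Subgroup G) := ⟨⟨a, ha⟩, 1, fun h => hr.out.ne_one (hao.symm.trans
    (orderOf_eq_one_iff.mpr (congrArg Subtype.val h)))⟩
  have := P.2.center_nontrivial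
  obtain ⟨z₀, hz₀⟩ := exists_prime_orderOf_dvd_card' r
    ((P.2.to_subgroup (center ↥(P : Subgroup G))).card_eq_or_dvd.resolve_left
      (fun h => by have := Finite.one_lt_card (α := center ↥(P : Subgroup G)); omega))
  set z : G := ((z₀ : ↥(P : Subgroup G)) : G) with hz
  have hzo : orderOf z = r := by rw [hz, orderOf_coe, orderOf_coe, hz₀]
  obtain ⟨u, hu, huo, hun⟩ : ∃ u ∈ (P : Subgroup G), orderOf u = r ∧ u ∉ zpowers z := by
    by_cases h : a ∈ zpowers z
    · refine ⟨b, hb, hbo, fun h2 => hab ?_⟩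
      rwa [eq_of_le_of_card_ge (zpowers_le.2 h) (by rw [Nat.card_zpowers, Nat.card_zpowers, hao, hzo])]
    · exact ⟨a, ha, hao, h⟩
  obtain ⟨hE, hEc⟩ := card_pair hzo huo
    (congrArg Subtype.val (mem_center_iff.mp z₀.2 ⟨u, hu⟩)).symm hun
  exact no_elem_sq hB hmn hE hEc

include hB hmn in
/-- The Sylow structure: cyclic, or a normal quaternion group of order eight. -/
theorem sylow_structure [Group.IsSolvable G] {r : ℕ} [hr : Fact r.Prime] (P : Sylow r G) :
    IsCyclic ↥(P : Subgroup G) ∨ (r = 2 ∧ Nat.card (P : Subgroup G) = 8 ∧ (P : Subgroup G).Normal ∧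
      ¬ IsCyclic ↥(P : Subgroup G) ∧
      ∀ a ∈ (P : Subgroup G), ∀ b ∈ (P : Subgroup G), orderOf a = 2 → orderOf b = 2 → a = b) := by
  by_cases hPc : IsCyclic ↥(P : Subgroup G)
  · exact Or.inl hPc
  right
  obtain ⟨rfl, h8, hu⟩ := (cases_of_unique hB P (unique_in_sylow hB hmn P)).resolve_left hPc
  refine ⟨rfl, h8, ?_, hPc, hu⟩
  obtain ⟨z, hz, hzo, hall, hzc, hij⟩ := eight_facts h8 hPc hu
  obtain ⟨i, hi, hi4⟩ : ∃ i ∈ (P : Subgroup G), orderOf i = 4 := by
    by_contra hcon
    push Not at hcon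
    have hle : (P : Subgroup G) ≤ zpowers z := fun x hx => by
      rcases hall x hx with rfl | rfl | ⟨h, -⟩
      · exact one_mem _
      · exact mem_zpowers _
      · exact absurd h (hcon x hx)
    have := Nat.le_of_dvd Nat.card_pos (card_dvd_of_le hle)
    rw [h8, Nat.card_zpowers, hzo] at this
    omega
  have hiz : i ^ 2 = z := by
    rcases hall i hi with rfl | rfl | ⟨-, h⟩
    · rw [orderOf_one] at hi4; omega
    · omega
    · exact h
  have hOP := Fitting.pCore_le_sylow (G := G) P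
  have hfour : ∀ C : Subgroup G, C.Normal → ∀ w ∈ C, orderOf w = 4 → (P : Subgroup G) ≤ C := by
    intro C hC w hw hw4 x hx
    rcases hall x hx with rfl | rfl | ⟨h, -⟩
    · exact one_mem _
    · rw [← hiz]; exact pow_mem (hB.mem_normal hw (hw4.trans hi4.symm)) 2
    · exact hB.mem_normal hw (hw4.trans h.symm)
  by_cases hO4 : ∃ w ∈ Cfsg.pCore 2 G, orderOf w = 4
  · obtain ⟨w, hw, hw4⟩ := hO4
    rw [le_antisymm (hfour _ (Fitting.pCore_normal 2) w hw hw4) hOP]
    exact Fitting.pCore_normal 2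
  exfalso
  push Not at hO4
  have hOz : Cfsg.pCore 2 G ≤ zpowers z := fun x hx => by
    rcases hall x (hOP hx) with rfl | rfl | ⟨h, -⟩
    · exact one_mem _
    · exact mem_zpowers _
    · exact absurd h (hO4 x hx)
  have hPC : ∀ r : ℕ, r.Prime → (P : Subgroup G) ≤ centralizer (Cfsg.pCore r G : Set G) := by
    intro r hr'
    have := Fact.mk hr'
    by_cases hr2 : r = 2
    · subst hr2
      intro x hx
      refine mem_centralizer_iff.2 fun v hv => ?_
      obtain ⟨k, rfl⟩ := mem_zpowers_iff.1 (hOz hv)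
      exact ((show Commute z x from hzc x hx).zpow_left k).eq
    set R := Cfsg.pCore r G with hR
    have hRn : R.Normal := Fitting.pCore_normal r
    obtain ⟨S, hS⟩ := (Fitting.pCore_isPGroup (G := G) r).exists_le_sylow
    have hSc : IsCyclic ↥(S : Subgroup G) :=
      (cases_of_unique hB S (unique_in_sylow hB hmn S)).resolve_right fun h => hr2 h.1
    have hRc : IsCyclic R := isCyclic_of_le hS
    obtain ⟨n, hn⟩ := (Fitting.pCore_isPGroup (G := G) r).exists_card_eq
    have hAc : IsCyclic (MulAut R) := by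
      have : IsCyclic (ZMod (r ^ n))ˣ := ZMod.isCyclic_units_of_prime_pow r hr' hr2 n
      rw [← hn] at this
      exact isCyclic_of_surjective (IsCyclic.mulAutMulEquiv R).symm.toMonoidHom
        (IsCyclic.mulAutMulEquiv R).symm.surjective
    let f : ↥(P : Subgroup G) →* MulAut R :=
      (MulAut.conjNormal : G →* MulAut R).comp (P : Subgroup G).subtype
    by_contra hnot
    have hker : f.ker ≤ center ↥(P : Subgroup G) := by
      rintro ⟨x, hx⟩ hfx
      rcases hall x hx with rfl | rfl | ⟨h, -⟩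
      · exact one_mem _
      · exact mem_center_iff.2 fun y => Subtype.ext (hzc y y.2).symm
      · exfalso
        refine hnot (hfour _ inferInstance x (mem_centralizer_iff.2 fun v hv => ?_) h)
        have h1 := congrArg (fun φ : MulAut R => ((φ ⟨v, hv⟩ : R) : G)) (MonoidHom.mem_ker.1 hfx)
        have h2 : x * v * x⁻¹ = v := h1
        exact (mul_inv_eq_iff_eq_mul.1 h2).symm
    have hPab : IsMulCommutative ↥(P : Subgroup G) := by
      have hc' : IsCyclic f.range := inferInstance
      exact f.rangeRestrict.isMulCommutative_of_isCyclic_of_ker_le_center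
        (by rw [MonoidHom.ker_rangeRestrict]; exact hker)
    have hle : (P : Subgroup G) ≤ zpowers i := fun j hj => by
      by_contra hji
      obtain ⟨-, -, hcomm⟩ := hij i hi j hj hi4 hji
      have h1 : i * j = j * i := congrArg Subtype.val (hPab.is_comm.comm ⟨i, hi⟩ ⟨j, hj⟩)
      have h2 : z = 1 := by rw [← hcomm, h1]; group
      rw [h2, orderOf_one] at hzo
      omega
    have := Nat.le_of_dvd Nat.card_pos (card_dvd_of_le hle)
    rw [h8, Nat.card_zpowers, hi4] at this
    omega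
  have hPF : (P : Subgroup G) ≤ Cfsg.fittingSubgroup G := by
    refine le_trans ?_ Fitting.centralizer_fitting_le
    intro e he
    have hle : Cfsg.fittingSubgroup G ≤ centralizer ({e} : Set G) := by
      rw [Fitting.fitting_eq_iSup_pCore]
      refine iSup_le fun r x hx => mem_centralizer_singleton_iff.2 ?_
      exact mem_centralizer_iff.1 (hPC r (Nat.prime_of_mem_primeFactors r.2) he) x hx
    exact mem_centralizer_iff.2 fun x hx => mem_centralizer_singleton_iff.1 (hle hx)
  obtain ⟨S, hS⟩ := ((P.2.of_equiv (subgroupOfEquivOfLe hPF).symm) :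
    IsPGroup 2 ((P : Subgroup G).subgroupOf (Cfsg.fittingSubgroup G))).exists_le_sylow
  have hle : (P : Subgroup G) ≤ Cfsg.pCore 2 G := fun x hx =>
    Fitting.sylow_fitting_eq_pCore S ▸ ⟨⟨x, hPF hx⟩, hS (mem_subgroupOf.2 hx), rfl⟩
  have := Nat.le_of_dvd Nat.card_pos (card_dvd_of_le (hle.trans hOz))
  rw [h8, Nat.card_zpowers, hzo] at this
  omega

end PrimeMinNormal

end CfsgLib.BGroupConj
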